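import Groth.Agent.ZeroCyc.K756.NormLaw

/-!
The law `T^d(B) → Γ^d(B)` of degree `d!` and its composites with `Γ^d(B) → TS^d(B)`.
-/

set_option autoImplicit false

universe u

open scoped TensorProduct
open K757.Ev K757.Coeff K757.TSFree K757.TSBasis K757.Factor K757.Exists

namespace K756.NormLaw

section Main

variable {A : Type u} [CommRing A] {B : Type u} [CommRing B] [Algebra A B]
  {C : Type u} [CommRing C] [Algebra A C] {d : ℕ} (γ : PolLaw.MulLaw A B C d)
  {P : Type u} [CommRing P] [Algebra A P] {ι : Type u} (b : Module.Basis ι A P)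
  (π : P →ₐ[A] B)

/-- The law `T^d(B) → C` of degree `d!` attached to a law `B → C` of degree `d`. -/
noncomputable def FT (hπ : Function.Surjective π) :
    PolLaw.MulLaw A (⨂[A] _ : Fin d, B) C d.factorial where
  law := (exists_FT γ b π hπ).choose
  homog := isHomog_of_precomp (SymTen.tmap A d π).toLinearMap (tmap_surjective π hπ) (by
    rw [(exists_FT γ b π hπ).choose_spec]; exact (G γ b π).homog)
  mult := isMult_of_precomp (SymTen.tmap A d π) (tmap_surjective π hπ) (by
    rw [(exists_FT γ b π hπ).choose_spec]; exact (G γ b π).mult)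

theorem FT_spec (hπ : Function.Surjective π) :
    PolLaw.precomp (FT γ b π hπ).law (SymTen.tmap A d π).toLinearMap = (G γ b π).law :=
  (exists_FT γ b π hπ).choose_spec

/-- The explicit description of the tensor power law. -/
theorem tpowLaw_sum (S : Type u) [CommSemiring S] [Algebra A S] (n : ℕ) (s : Fin n → S)
    (x : Fin n → B) : (SymTen.tpowLaw A B d).law.toFun' S (∑ j, s j ⊗ₜ[A] x j) =
      ∑ c : Fin d → Fin n, (∏ i, s (c i)) ⊗ₜ[A] PiTensorProduct.tprod A (fun i => x (c i)) := by
  classical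
  rw [toFun'_eq_ev]
  have h : (Algebra.TensorProduct.includeLeft : S →ₐ[A] S ⊗[A] (⨂[A] _ : Fin d, B)).toLinearMap.rTensor B
      (∑ i, s i ⊗ₜ[A] x i) = ∑ i, (s i ⊗ₜ[A] (1 : ⨂[A] _ : Fin d, B)) ⊗ₜ[A] x i := by simp
  rw [h, ev_tpow]
  simp only [map_sum, mulMap_tmul]
  rw [Finset.prod_univ_sum]
  rw [Fintype.piFinset_univ]
  refine Finset.sum_congr rfl fun c _ => ?_
  have h2 : ∀ i : Fin d, (s (c i) ⊗ₜ[A] (1 : ⨂[A] _ : Fin d, B)) *
      ((Algebra.TensorProduct.includeRight :
        (⨂[A] _ : Fin d, B) →ₐ[A] S ⊗[A] (⨂[A] _ : Fin d, B)).comp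
          (PiTensorProduct.singleAlgHom (A := fun _ : Fin d => B) i)) (x (c i)) =
      s (c i) ⊗ₜ[A] PiTensorProduct.singleAlgHom (R := A) (A := fun _ : Fin d => B) i (x (c i)) := by
    intro i
    rw [AlgHom.comp_apply, Algebra.TensorProduct.includeRight_apply,
      Algebra.TensorProduct.tmul_mul_tmul, mul_one, one_mul]
  rw [Finset.prod_congr rfl fun i _ => h2 i]
  rw [← prod_single (A := A) (B := B) (fun i => x (c i))]
  have h3 : ∀ (t : Finset (Fin d)) (u : Fin d → S) (v : Fin d → ⨂[A] _ : Fin d, B),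
      ∏ i ∈ t, (u i ⊗ₜ[A] v i) = (∏ i ∈ t, u i) ⊗ₜ[A] (∏ i ∈ t, v i) := by
    intro t u v
    induction t using Finset.induction_on with
    | empty => rw [Finset.prod_empty, Finset.prod_empty, Finset.prod_empty]; rfl
    | insert a t ha ih =>
      rw [Finset.prod_insert ha, Finset.prod_insert ha, Finset.prod_insert ha, ih,
        Algebra.TensorProduct.tmul_mul_tmul]
  rw [h3]

theorem law_eq_tpow_of_sum {φ : C →ₐ[A] SymTen.TS A B d}
    (hφ : ∀ (S : Type u) [CommSemiring S] [Algebra A S] (n : ℕ) (s : Fin n → S) (b : Fin n → B),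
      ((SymTen.TS A B d).val.comp φ).toLinearMap.lTensor S (γ.law.toFun' S (∑ j, s j ⊗ₜ[A] b j)) =
        ∑ c : Fin d → Fin n, (∏ i, s (c i)) ⊗ₜ[A] PiTensorProduct.tprod A (fun i => b (c i))) :
    PolLaw.postcomp ((SymTen.TS A B d).val.comp φ).toLinearMap γ.law =
      (SymTen.tpowLaw A B d).law := by
  refine PolynomialLaw.ext ?_
  funext S _ _ x
  obtain ⟨s, t, rfl⟩ := K757.Coeff.exists_sum_of_span (e := (id : B → B)) (by simp) x
  have hs : ∑ i ∈ s, t i ⊗ₜ[A] (id i : B) =
      ∑ j : Fin s.card, t (s.equivFin.symm j) ⊗ₜ[A] ((s.equivFin.symm j : s) : B) := by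
    rw [← Finset.sum_coe_sort s (fun i => t i ⊗ₜ[A] (id i : B))]
    exact (Equiv.sum_comp s.equivFin.symm (fun i : s => t i ⊗ₜ[A] (id (i : B) : B))).symm
  rw [hs, tpowLaw_sum]
  exact hφ S s.card _ _

variable {γ}

/-- The composite `TS^d(P) → C → T^d(B)` is the canonical one. -/
theorem val_comp_liftAlg {φ : C →ₐ[A] SymTen.TS A B d}
    (hφ : PolLaw.postcomp ((SymTen.TS A B d).val.comp φ).toLinearMap γ.law =
      (SymTen.tpowLaw A B d).law) :
    ((SymTen.TS A B d).val.comp φ).comp (liftAlg b (γ.precomp π)) =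
      (SymTen.tmap A d π).comp (SymTen.TS A P d).val := by
  have h1 : PolLaw.postcomp (((SymTen.TS A B d).val.comp φ).comp
      (liftAlg b (γ.precomp π))).toLinearMap (uLaw b d).law =
      PolLaw.precomp (SymTen.tpowLaw A B d).law π.toLinearMap := by
    change PolLaw.postcomp (((SymTen.TS A B d).val.comp φ).toLinearMap ∘ₗ
      (liftAlg b (γ.precomp π)).toLinearMap) (uLaw b d).law = _
    rw [← postcomp_postcomp, postcomp_liftAlg, ← hφ]
    rfl
  have h2 : PolLaw.postcomp ((SymTen.tmap A d π).comp (SymTen.TS A P d).val).toLinearMap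
      (uLaw b d).law = PolLaw.precomp (SymTen.tpowLaw A B d).law π.toLinearMap := by
    change PolLaw.postcomp ((SymTen.tmap A d π).toLinearMap ∘ₗ
      (SymTen.TS A P d).val.toLinearMap) (uLaw b d).law = _
    rw [← postcomp_postcomp, uLaw_val, tmap_tpowLaw]
  obtain ⟨k, -, hk⟩ := isGammaD_uLaw b (d := d) (⨂[A] _ : Fin d, B)
    ((SymTen.tpowLaw A B d).precomp π)
  rw [hk _ h1, hk _ h2]

/-- `φ ∘ F = symmetrization`, as laws on `T^d(B)`. -/
theorem val_FT (hπ : Function.Surjective π) {φ : C →ₐ[A] SymTen.TS A B d}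
    (hφ : PolLaw.postcomp ((SymTen.TS A B d).val.comp φ).toLinearMap γ.law =
      (SymTen.tpowLaw A B d).law) :
    PolLaw.postcomp ((SymTen.TS A B d).val.comp φ).toLinearMap (FT γ b π hπ).law =
      (SymTen.symmLaw A B d).law := by
  apply precomp_injective (SymTen.tmap A d π).toLinearMap (tmap_surjective (d := d) π hπ)
  have h1 : PolLaw.precomp (PolLaw.postcomp ((SymTen.TS A B d).val.comp φ).toLinearMap
      (FT γ b π hπ).law) (SymTen.tmap A d π).toLinearMap =
      PolLaw.postcomp ((SymTen.TS A B d).val.comp φ).toLinearMap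
        (PolLaw.precomp (FT γ b π hπ).law (SymTen.tmap A d π).toLinearMap) := rfl
  refine h1.trans ?_
  rw [FT_spec]
  have h2 : (G γ b π).law = PolLaw.postcomp (liftAlg b (γ.precomp π)).toLinearMap (N b d).law := rfl
  rw [h2, postcomp_postcomp]
  have h3 : ((SymTen.TS A B d).val.comp φ).toLinearMap ∘ₗ
      (liftAlg b (γ.precomp π)).toLinearMap = (SymTen.tmap A d π).toLinearMap ∘ₗ
        (SymTen.TS A P d).val.toLinearMap :=
    congrArg AlgHom.toLinearMap (val_comp_liftAlg b π hφ)
  rw [h3, ← postcomp_postcomp, val_N, tmap_symmLaw]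

/-- If `γ` is universal then `TS^d(P) → C` is surjective. -/
theorem liftAlg_surjective (hγ : PolLaw.IsGammaD γ) (hπ : Function.Surjective π) :
    Function.Surjective (liftAlg b (γ.precomp π)) := by
  have hspan : Submodule.span A (Set.range fun i => π (b i)) = ⊤ := by
    have := b.span_eq
    have h2 : Set.range (fun i => π (b i)) = π.toLinearMap '' (Set.range b) := by
      rw [← Set.range_comp]; rfl
    rw [h2, ← Submodule.map_span, this, Submodule.map_top]
    exact LinearMap.range_eq_top.mpr hπ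
  have h1 := span_cf hγ hspan
  have h2 : Submodule.span A (Set.range (cf γ.law fun i => π (b i))) ≤
      LinearMap.range (liftAlg b (γ.precomp π)).toLinearMap := by
    rw [Submodule.span_le]
    rintro _ ⟨α, rfl⟩
    refine ⟨cTS d b α, ?_⟩
    rw [← cf_uLaw b d, ← cf_postcomp (uLaw b d).homog, postcomp_liftAlg]
    exact cf_precomp γ.law π.toLinearMap b α
  rw [h1] at h2
  exact LinearMap.range_eq_top.mp (top_le_iff.mp h2)

/-- **The law `TS^d(B) → Γ^d(B)`.** -/
theorem exists_law (hγ : PolLaw.IsGammaD γ) {φ : C →ₐ[A] SymTen.TS A B d}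
    (hφ : PolLaw.postcomp ((SymTen.TS A B d).val.comp φ).toLinearMap γ.law =
      (SymTen.tpowLaw A B d).law) :
    ∃ F : PolLaw.MulLaw A (SymTen.TS A B d) C d.factorial,
      PolLaw.MulLaw.postcomp φ F = PolLaw.MulLaw.pow A (SymTen.TS A B d) d.factorial ∧
      PolLaw.MulLaw.precomp F φ = PolLaw.MulLaw.pow A C d.factorial := by
  let P := MvPolynomial B A
  let π : P →ₐ[A] B := pr A B
  have hπ : Function.Surjective π := pr_surjective A B
  let b : Module.Basis (B →₀ ℕ) A P := bP A B
  refine ⟨(FT γ b π hπ).precomp (SymTen.TS A B d).val, ?_, ?_⟩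
  · apply PolLaw.MulLaw.ext
    apply postcomp_injective (j := (SymTen.TS A B d).val.toLinearMap) Subtype.val_injective
    have h1 : PolLaw.postcomp (SymTen.TS A B d).val.toLinearMap
        (PolLaw.MulLaw.postcomp φ ((FT γ b π hπ).precomp (SymTen.TS A B d).val)).law =
        PolLaw.precomp (PolLaw.postcomp ((SymTen.TS A B d).val.comp φ).toLinearMap
          (FT γ b π hπ).law) (SymTen.TS A B d).val.toLinearMap := by
      change PolLaw.postcomp (SymTen.TS A B d).val.toLinearMap (PolLaw.postcomp φ.toLinearMap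
        (PolLaw.precomp (FT γ b π hπ).law (SymTen.TS A B d).val.toLinearMap)) = _
      rw [postcomp_postcomp]
      rfl
    rw [h1, val_FT b π hπ hφ, symmLaw_val]
  · apply PolLaw.MulLaw.ext
    have hs := liftAlg_surjective (γ := γ) b π hγ hπ
    apply precomp_injective (liftAlg b (γ.precomp π)).toLinearMap hs
    -- `TS(P) → C → TS(B) ⊆ T(B)` is `TS(P) ⊆ T(P) → T(B)`
    have h3 := val_comp_liftAlg (γ := γ) b π hφ
    have h4 : PolLaw.precomp (PolLaw.MulLaw.precomp ((FT γ b π hπ).precomp
        (SymTen.TS A B d).val) φ).law (liftAlg b (γ.precomp π)).toLinearMap =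
        PolLaw.precomp (FT γ b π hπ).law
          (((SymTen.TS A B d).val.comp φ).comp (liftAlg b (γ.precomp π))).toLinearMap := by
      refine ext_ev fun T _ _ g x => ?_
      change ev (FT γ b π hπ).law g ((SymTen.TS A B d).val.toLinearMap.lTensor T
        (φ.toLinearMap.lTensor T ((liftAlg b (γ.precomp π)).toLinearMap.lTensor T x))) =
        ev (FT γ b π hπ).law g ((((SymTen.TS A B d).val.comp φ).comp
          (liftAlg b (γ.precomp π))).toLinearMap.lTensor T x)
      rw [AlgHom.comp_toLinearMap, AlgHom.comp_toLinearMap, LinearMap.lTensor_comp,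
        LinearMap.lTensor_comp]
      rfl
    rw [h4, h3]
    have h5 : PolLaw.precomp (FT γ b π hπ).law
        ((SymTen.tmap A d π).comp (SymTen.TS A P d).val).toLinearMap =
        PolLaw.precomp (PolLaw.precomp (FT γ b π hπ).law (SymTen.tmap A d π).toLinearMap)
          (SymTen.TS A P d).val.toLinearMap := by
      refine ext_ev fun T _ _ g x => ?_
      change ev (FT γ b π hπ).law g (((SymTen.tmap A d π).comp
        (SymTen.TS A P d).val).toLinearMap.lTensor T x) =
        ev (FT γ b π hπ).law g ((SymTen.tmap A d π).toLinearMap.lTensor T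
          ((SymTen.TS A P d).val.toLinearMap.lTensor T x))
      rw [AlgHom.comp_toLinearMap, LinearMap.lTensor_comp]
      rfl
    rw [h5, FT_spec]
    have h6 : PolLaw.precomp (G γ b π).law (SymTen.TS A P d).val.toLinearMap =
        PolLaw.postcomp (liftAlg b (γ.precomp π)).toLinearMap
          (PolLaw.precomp (N b d).law (SymTen.TS A P d).val.toLinearMap) := rfl
    rw [h6, N_val]
    refine ext_ev fun T _ _ g x => ?_
    rw [ev_postcomp, ev_precomp]
    change ev (PolLaw.powLaw (A := A) (B := SymTen.TS A P d) d.factorial) _ x =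
      ev (PolLaw.powLaw (A := A) (B := C) d.factorial) _ _
    rw [ev_powLaw, ev_powLaw, mulMap_lTensor]

theorem ground_postcomp {M N N' : Type u} [AddCommGroup M] [Module A M] [AddCommGroup N]
    [Module A N] [AddCommGroup N'] [Module A N'] (f : N →ₗ[A] N') (F : M →ₚₗ[A] N) (x : M) :
    (PolLaw.postcomp f F).ground x = f (F.ground x) := by
  rw [PolynomialLaw.ground_apply, PolynomialLaw.ground_apply]
  change TensorProduct.lid A N' (f.lTensor A (F.toFun' A (1 ⊗ₜ[A] x))) = _
  generalize F.toFun' A (1 ⊗ₜ[A] x) = z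
  induction z using TensorProduct.induction_on with
  | zero => simp
  | tmul a b => simp
  | add a b ha hb => simp only [map_add, ha, hb]

theorem ground_precomp {M M' N : Type u} [AddCommGroup M] [Module A M] [AddCommGroup N]
    [Module A N] [AddCommGroup M'] [Module A M'] (F : M →ₚₗ[A] N) (f : M' →ₗ[A] M) (x : M') :
    (PolLaw.precomp F f).ground x = F.ground (f x) := by
  rw [PolynomialLaw.ground_apply, PolynomialLaw.ground_apply]
  change TensorProduct.lid A N (F.toFun' A (f.lTensor A (1 ⊗ₜ[A] x))) = _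
  rw [LinearMap.lTensor_tmul]

theorem ground_pow (n : ℕ) (x : B) :
    (PolLaw.MulLaw.pow A B n).law.ground x = x ^ n := by
  rw [PolynomialLaw.ground_apply]
  change TensorProduct.lid A B ((1 ⊗ₜ[A] x) ^ n) = _
  rw [Algebra.TensorProduct.tmul_pow, one_pow, TensorProduct.lid_tmul, one_smul]

theorem pow_statements (hγ : PolLaw.IsGammaD γ) {φ : C →ₐ[A] SymTen.TS A B d}
    (hφ : PolLaw.postcomp ((SymTen.TS A B d).val.comp φ).toLinearMap γ.law =
      (SymTen.tpowLaw A B d).law) :
    (∀ x : C, φ x = 0 → x ^ d.factorial = 0) ∧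
      (∀ y : SymTen.TS A B d, y ^ d.factorial ∈ φ.range) := by
  obtain ⟨F, h1, h2⟩ := exists_law hγ hφ
  refine ⟨fun x hx => ?_, fun y => ?_⟩
  · have h3 : ∀ z : C, F.law.ground (φ z) = z ^ d.factorial := by
      intro z
      rw [← ground_pow (A := A) d.factorial z, ← h2]
      exact (ground_precomp F.law φ.toLinearMap z).symm
    rw [← h3, hx, ← map_zero φ, h3, zero_pow (Nat.factorial_ne_zero d)]
  · refine ⟨F.law.ground y, ?_⟩
    rw [← ground_pow (A := A) d.factorial y, ← h1]
    exact (ground_postcomp φ.toLinearMap F.law y).symm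

theorem ground_symmLaw (z : ⨂[A] _ : Fin d, B) :
    (SymTen.symmLaw A B d).law.ground z = ∏ σ : Equiv.Perm (Fin d), SymTen.perm A B d σ z := by
  rw [PolynomialLaw.ground_apply, SymTen.symmLaw, PolLaw.MulLaw.prodMap_tmul, one_pow,
    TensorProduct.lid_tmul, one_smul]

/-- The law `T^d(B) → C` with `φ (F z) = ∏ σ z`. -/
theorem exists_law_tensor {φ : C →ₐ[A] SymTen.TS A B d}
    (hφ : PolLaw.postcomp ((SymTen.TS A B d).val.comp φ).toLinearMap γ.law =
      (SymTen.tpowLaw A B d).law) :
    ∃ F : PolLaw.MulLaw A (⨂[A] _ : Fin d, B) C d.factorial,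
      PolLaw.postcomp ((SymTen.TS A B d).val.comp φ).toLinearMap F.law =
        (SymTen.symmLaw A B d).law ∧
      ∀ z : ⨂[A] _ : Fin d, B, ((SymTen.TS A B d).val (φ (F.law.ground z)) : ⨂[A] _ : Fin d, B) =
        ∏ σ : Equiv.Perm (Fin d), SymTen.perm A B d σ z := by
  refine ⟨FT γ (bP A B) (pr A B) (pr_surjective A B), val_FT _ _ _ hφ, fun z => ?_⟩
  rw [← ground_symmLaw, ← val_FT (bP A B) (pr A B) (pr_surjective A B) hφ, ground_postcomp]
  rfl

end Main

end K756.NormLaw
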