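import Groth.Agent.ZeroCyc.K757.Exists

/-!
Surjectivity of Iversen's homomorphism `Γ^{e+1}(B) ⊗ B → Γ^e(B) ⊗ B`.
-/

set_option autoImplicit false

universe u

open scoped TensorProduct

namespace K756.Iversen

open K757.Ev K757.Coeff

section

variable {A B Cd Ce : Type u} [CommRing A] [CommRing B] [Algebra A B]
    [CommRing Cd] [Algebra A Cd] [CommRing Ce] [Algebra A Ce] (e : ℕ)
    (γd : PolLaw.MulLaw A B Cd (e + 1))
    (γe : PolLaw.MulLaw A B Ce e)
    (ω : Cd ⊗[A] B →ₐ[A] Ce ⊗[A] B)

/-- the hypothesis on `ω`. -/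
def IsIv : Prop :=
  ∀ (S : Type u) [CommSemiring S] [Algebra A S] (x y : S ⊗[A] B),
      ω.toLinearMap.lTensor S
        ((Algebra.TensorProduct.includeLeft : Cd →ₐ[A] Cd ⊗[A] B).toLinearMap.lTensor S (γd.law.toFun' S x) *
          (Algebra.TensorProduct.includeRight : B →ₐ[A] Cd ⊗[A] B).toLinearMap.lTensor S y) =
      (Algebra.TensorProduct.includeLeft : Ce →ₐ[A] Ce ⊗[A] B).toLinearMap.lTensor S (γe.law.toFun' S x) *
        (Algebra.TensorProduct.includeRight : B →ₐ[A] Ce ⊗[A] B).toLinearMap.lTensor S (x * y)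

variable {e γd γe ω}

theorem law_one {C : Type u} [CommRing C] [Algebra A C] {d : ℕ} (γ : PolLaw.MulLaw A B C d)
    (S : Type u) [CommSemiring S] [Algebra A S] : γ.law.toFun' S 1 = 1 := (γ.mult S).1

/-- the elements `1 ⊗ y` are in the image. -/
theorem one_tmul_mem (hω : IsIv e γd γe ω) (y : B) : (1 : Ce) ⊗ₜ[A] y ∈ ω.range := by
  refine ⟨1 ⊗ₜ[A] y, ?_⟩
  have h := hω A 1 (1 ⊗ₜ[A] y)
  rw [law_one, law_one, one_mul] at h
  have h1 : (Algebra.TensorProduct.includeLeft : Cd →ₐ[A] Cd ⊗[A] B).toLinearMap.lTensor A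
      (1 : A ⊗[A] Cd) = 1 := by
    rw [Algebra.TensorProduct.one_def, LinearMap.lTensor_tmul, AlgHom.toLinearMap_apply, map_one]
    rfl
  have h2 : (Algebra.TensorProduct.includeLeft : Ce →ₐ[A] Ce ⊗[A] B).toLinearMap.lTensor A
      (1 : A ⊗[A] Ce) = 1 := by
    rw [Algebra.TensorProduct.one_def, LinearMap.lTensor_tmul, AlgHom.toLinearMap_apply, map_one]
    rfl
  rw [h1, h2, one_mul, one_mul, LinearMap.lTensor_tmul, LinearMap.lTensor_tmul,
    LinearMap.lTensor_tmul] at h
  have h3 := congrArg (TensorProduct.lid A (Ce ⊗[A] B)) h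
  rw [TensorProduct.lid_tmul, TensorProduct.lid_tmul, one_smul, one_smul] at h3
  exact h3

open Classical in
/-- The coefficient relation. -/
theorem coeff_rel (hω : IsIv e γd γe ω) (s : Finset B) (α : B →₀ ℕ) (hα : α ∈ s.finsuppAntidiag (e + 1)) :
    ω ((cf γd.law id α) ⊗ₜ[A] 1) =
      ∑ p ∈ (s.finsuppAntidiag e ×ˢ s) with p.1 + Finsupp.single p.2 1 = α,
        (cf γe.law id p.1) ⊗ₜ[A] p.2 := by
  let S := MvPolynomial B A
  let x : S ⊗[A] B := ∑ i ∈ s, (MvPolynomial.X i : S) ⊗ₜ[A] (id i : B)
  have h := hω S x 1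
  have hmon : ∀ β : B →₀ ℕ, (β.prod fun i n => (MvPolynomial.X i : S) ^ n) =
      MvPolynomial.monomial β 1 := by
    intro β
    rw [MvPolynomial.monomial_eq, MvPolynomial.C_1, one_mul]
  have h1 : (Algebra.TensorProduct.includeRight : B →ₐ[A] Cd ⊗[A] B).toLinearMap.lTensor S
      (1 : S ⊗[A] B) = 1 := by
    rw [Algebra.TensorProduct.one_def, LinearMap.lTensor_tmul, AlgHom.toLinearMap_apply, map_one]
    rfl
  rw [mul_one, h1, mul_one, toFun'_sum_eq γd.homog, toFun'_sum_eq γe.homog, map_sum, map_sum,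
    map_sum, map_sum, Finset.sum_mul_sum] at h
  have h2 := congrArg (fun z => TensorProduct.lid A (Ce ⊗[A] B)
    ((MvPolynomial.lcoeff A α).rTensor (Ce ⊗[A] B) z)) h
  simp only [map_sum, LinearMap.lTensor_tmul, hmon, LinearMap.rTensor_tmul,
    TensorProduct.lid_tmul, MvPolynomial.lcoeff_apply, MvPolynomial.coeff_monomial,
    Algebra.TensorProduct.tmul_mul_tmul, AlgHom.toLinearMap_apply, ite_smul, one_smul, zero_smul,
    Finset.sum_ite_eq', if_pos hα, Algebra.TensorProduct.includeLeft_apply,
    Algebra.TensorProduct.includeRight_apply, mul_one, one_mul, id] at h2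
  rw [h2, ← Finset.sum_product', Finset.sum_filter]
  refine Finset.sum_congr rfl fun p _ => ?_
  rw [show (MvPolynomial.X p.2 : MvPolynomial B A) = MvPolynomial.monomial (Finsupp.single p.2 1) 1 from rfl,
    MvPolynomial.monomial_mul, MvPolynomial.coeff_monomial, mul_one]
  split_ifs <;> simp

/-- the coefficients of `γ_e` are in the image. -/
theorem cf_mem (hω : IsIv e γd γe ω) (n : ℕ) : ∀ β : B →₀ ℕ, β.degree = e → e - β 1 ≤ n →
    (cf γe.law id β) ⊗ₜ[A] (1 : B) ∈ ω.range := by
  classical
  induction n with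
  | zero =>
    intro β hβ hn
    have hb : β = Finsupp.single 1 e := by
      have h1 : β 1 = e := by
        have h2 : β 1 ≤ β.degree := Finsupp.le_degree 1 β
        omega
      have h3 : β = Finsupp.single 1 (β 1) + (β - Finsupp.single 1 (β 1)) := by
        rw [add_tsub_cancel_of_le]
        exact Finsupp.single_le_iff.mpr le_rfl
      have h4 : (β - Finsupp.single 1 (β 1)).degree = 0 := by
        have h5 := congrArg Finsupp.degree h3
        rw [map_add, Finsupp.degree_single, hβ, h1] at h5
        rw [h1]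
        omega
      rw [Finsupp.degree_eq_zero_iff] at h4
      rw [h3, h4, add_zero, h1]
    have h1 : cf γe.law id β = 1 := by
      have h2 := toFun'_sum_eq γe.homog (id : B → B) {1} (fun _ => (1 : A))
      rw [Finset.sum_singleton] at h2
      have h3 : γe.law.toFun' A ((1 : A) ⊗ₜ[A] (id 1 : B)) = 1 := law_one γe A
      rw [h3] at h2
      have h4 : ({1} : Finset B).finsuppAntidiag e = {β} := by
        ext γ
        rw [Finset.mem_singleton, Finset.mem_finsuppAntidiag, Finset.sum_singleton, hb]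
        constructor
        · rintro ⟨h5, h6⟩
          ext i
          by_cases hi : i = 1
          · subst hi; simpa using h5
          · rw [Finsupp.single_apply, if_neg (Ne.symm hi)]
            by_contra h7
            exact hi (Finset.mem_singleton.mp (h6 (Finsupp.mem_support_iff.mpr h7)))
        · rintro rfl
          refine ⟨by simp, Finsupp.support_single_subset⟩
      rw [h4, Finset.sum_singleton] at h2
      have h8 := congrArg (TensorProduct.lid A Ce) h2
      simp only [one_pow, Finsupp.prod, Finset.prod_const_one, TensorProduct.lid_tmul, one_smul] at h8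
      rw [← h8, Algebra.TensorProduct.one_def, TensorProduct.lid_tmul, one_smul]
    rw [h1]
    exact one_tmul_mem hω 1
  | succ n ih =>
    intro β hβ hn
    let s : Finset B := insert 1 β.support
    let α : B →₀ ℕ := β + Finsupp.single 1 1
    have hβs : β ∈ s.finsuppAntidiag e := Finset.mem_finsuppAntidiag'.mpr ⟨hβ, Finset.subset_insert _ _⟩
    have hαs : α ∈ s.finsuppAntidiag (e + 1) := by
      refine Finset.mem_finsuppAntidiag'.mpr ⟨?_, ?_⟩
      · have : (β + Finsupp.single 1 1).degree = e + 1 := by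
          rw [map_add, hβ, Finsupp.degree_single]
        exact this
      · intro i hi
        have h1 := Finsupp.support_add hi
        rw [Finset.mem_union] at h1
        rcases h1 with h1 | h1
        · exact Finset.mem_insert_of_mem h1
        · rw [Finset.mem_singleton.mp (Finsupp.support_single_subset h1)]
          exact Finset.mem_insert_self _ _
    have h := coeff_rel hω s α hαs
    have hmem : (β, (1 : B)) ∈ (s.finsuppAntidiag e ×ˢ s).filter (fun p => p.1 + Finsupp.single p.2 1 = α) :=
      Finset.mem_filter.mpr ⟨Finset.mem_product.mpr ⟨hβs, Finset.mem_insert_self _ _⟩, rfl⟩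
    rw [← Finset.add_sum_erase _ _ hmem] at h
    have h2 : (cf γe.law id β) ⊗ₜ[A] (1 : B) = ω ((cf γd.law id α) ⊗ₜ[A] 1) -
        ∑ p ∈ ((s.finsuppAntidiag e ×ˢ s).filter (fun p => p.1 + Finsupp.single p.2 1 = α)).erase (β, (1 : B)),
          (cf γe.law id p.1) ⊗ₜ[A] p.2 := by
      rw [h, add_sub_cancel_right]
    rw [h2]
    refine sub_mem ⟨_, rfl⟩ (sum_mem ?_)
    rintro ⟨β', i⟩ hp
    rw [Finset.mem_erase, Finset.mem_filter, Finset.mem_product] at hp
    obtain ⟨hne, ⟨hβ', -⟩, heq⟩ := hp
    dsimp only at hβ' heq ⊢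
    have hi : i ≠ 1 := by
      rintro rfl
      apply hne
      rw [add_right_cancel heq]
    have hdeg : β'.degree = e := (Finset.mem_finsuppAntidiag'.mp hβ').1
    have hb' : β' 1 = β 1 + 1 := by
      have h5 := DFunLike.congr_fun heq 1
      rw [Finsupp.add_apply, Finsupp.add_apply, Finsupp.single_apply, if_neg hi,
        Finsupp.single_apply, if_pos rfl, add_zero] at h5
      exact h5
    have h6 := ih β' hdeg (by omega)
    have h7 : (cf γe.law id β') ⊗ₜ[A] i = ((cf γe.law id β') ⊗ₜ[A] (1 : B)) * ((1 : Ce) ⊗ₜ[A] i) := by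
      rw [Algebra.TensorProduct.tmul_mul_tmul, mul_one, one_mul]
    rw [h7]
    exact mul_mem h6 (one_tmul_mem hω i)

theorem surjective (hγe : PolLaw.IsGammaD γe) (hω : IsIv e γd γe ω) : Function.Surjective ω := by
  rw [← AlgHom.range_eq_top, eq_top_iff]
  have hid : Submodule.span A (Set.range (id : B → B)) = ⊤ := by simp
  have h1 : ∀ c : Ce, c ⊗ₜ[A] (1 : B) ∈ ω.range := by
    intro c
    have hc : c ∈ Submodule.span A (Set.range (cf γe.law (id : B → B))) := by
      rw [K757.Exists.span_cf hγe hid]; trivial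
    induction hc using Submodule.span_induction with
    | zero => rw [TensorProduct.zero_tmul]; exact zero_mem _
    | add x y _ _ hx hy => rw [TensorProduct.add_tmul]; exact add_mem hx hy
    | smul a x _ hx => rw [← TensorProduct.smul_tmul']; exact Subalgebra.smul_mem _ hx a
    | mem x hx =>
      obtain ⟨β, rfl⟩ := hx
      by_cases hβ : β.degree = e
      · exact cf_mem hω _ β hβ le_rfl
      · rw [cf_eq_zero γe.homog _ hβ, TensorProduct.zero_tmul]; exact zero_mem _
  intro z _
  induction z using TensorProduct.induction_on with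
  | zero => exact zero_mem _
  | add x y hx hy => exact add_mem (hx trivial) (hy trivial)
  | tmul c b =>
    have h2 : c ⊗ₜ[A] b = (c ⊗ₜ[A] (1 : B)) * ((1 : Ce) ⊗ₜ[A] b) := by
      rw [Algebra.TensorProduct.tmul_mul_tmul, mul_one, one_mul]
    rw [h2]
    exact mul_mem (h1 c) (one_tmul_mem hω b)

end

end K756.Iversen
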