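import Groth.Agent.ZeroCyc.K756.Rad
import Mathlib.RingTheory.TotallySplit
import Mathlib.RingTheory.Norm.Basic
import Mathlib.RingTheory.Flat.FaithfullyFlat.Basic

/-!
The norm law of a finite étale algebra: its kernel vanishes and it is the only multiplicative law
of that degree with nilpotent kernel.
-/

set_option autoImplicit false
set_option linter.style.haveILetI false

universe u

open scoped TensorProduct

namespace K756.NormEt

open K756.KerBC K756.Sat K756.BC K757.Ev K757.Coeff

section Split

variable {A : Type u} [CommRing A] {P : Type u} [CommRing P] [Algebra A P]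
  {ι : Type u} [Fintype ι] (E : P ≃ₐ[A] (ι → A))

open Classical in
/-- the idempotents of the split algebra. -/
noncomputable def idem (i : ι) : P := E.symm (Pi.single i 1)

omit [Fintype ι] in
theorem E_idem (i : ι) [DecidableEq ι] : E (idem E i) = Pi.single i 1 := by
  rw [idem, AlgEquiv.apply_symm_apply]
  congr
  exact Subsingleton.elim _ _

theorem idem_mul (i j : ι) [DecidableEq ι] : idem E i * idem E j = if i = j then idem E i else 0 := by
  apply E.injective
  rw [map_mul, E_idem, E_idem]
  split_ifs with h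
  · subst h
    rw [E_idem]
    ext k
    by_cases hk : k = i
    · subst hk; simp
    · simp [Pi.single_eq_of_ne hk]
  · rw [map_zero]
    ext k
    rw [Pi.mul_apply, Pi.zero_apply]
    by_cases hk : k = i
    · subst hk
      rw [Pi.single_eq_of_ne h, mul_zero]
    · rw [Pi.single_eq_of_ne hk, zero_mul]

theorem sum_idem : ∑ i, idem E i = 1 := by
  classical
  apply E.injective
  rw [map_sum, map_one]
  simp_rw [E_idem]
  exact Finset.univ_sum_single (1 : ι → A)

theorem eq_sum (p : P) : p = ∑ i, E p i • idem E i := by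
  classical
  apply E.injective
  rw [map_sum]
  simp_rw [map_smul, E_idem]
  ext k
  rw [Finset.sum_apply]
  simp [Pi.single_apply]

theorem span_idem : Submodule.span A (Set.range (idem E)) = ⊤ := by
  rw [eq_top_iff]
  intro p _
  rw [eq_sum E p]
  exact Submodule.sum_mem _ fun i _ => Submodule.smul_mem _ _ (Submodule.subset_span ⟨i, rfl⟩)

theorem exists_sum {S : Type u} [CommSemiring S] [Algebra A S] (x : S ⊗[A] P) :
    ∃ t : ι → S, x = ∑ i, t i ⊗ₜ[A] idem E i := by
  classical
  obtain ⟨s, t, rfl⟩ := exists_sum_of_span (span_idem E) x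
  refine ⟨fun i => if i ∈ s then t i else 0, ?_⟩
  rw [← Finset.sum_subset (Finset.subset_univ s)]
  · exact Finset.sum_congr rfl fun i hi => by dsimp only; rw [if_pos hi]
  · intro i _ hi
    dsimp only
    rw [if_neg hi, TensorProduct.zero_tmul]

theorem sum_mul_sum {S : Type u} [CommSemiring S] [Algebra A S] (t u : ι → S) :
    (∑ i, t i ⊗ₜ[A] idem E i) * (∑ i, u i ⊗ₜ[A] idem E i) = ∑ i, (t i * u i) ⊗ₜ[A] idem E i := by
  classical
  rw [Finset.sum_mul_sum]
  refine Finset.sum_congr rfl fun i _ => ?_
  rw [Finset.sum_eq_single i]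
  · rw [Algebra.TensorProduct.tmul_mul_tmul, idem_mul, if_pos rfl]
  · intro j _ hj
    rw [Algebra.TensorProduct.tmul_mul_tmul, idem_mul, if_neg (Ne.symm hj), TensorProduct.tmul_zero]
  · intro h; exact absurd (Finset.mem_univ i) h

variable {d : ℕ} (F : PolLaw.MulLaw A P A d)

theorem val_sum {S : Type u} [CommSemiring S] [Algebra A S] [DecidableEq ι] (t : ι → S) :
    val F.law S (∑ i, t i ⊗ₜ[A] idem E i) =
      ∑ α ∈ Finset.univ.finsuppAntidiag d,
        algebraMap A S (cf F.law (idem E) α) * α.prod (fun i n => t i ^ n) := by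
  unfold val
  rw [toFun'_sum_eq F.homog, map_sum]
  refine Finset.sum_congr rfl fun α _ => ?_
  rw [TensorProduct.rid_tmul, Algebra.smul_def]

theorem cf_mul_cf (α β : ι →₀ ℕ) [DecidableEq (ι →₀ ℕ)] :
    cf F.law (idem E) α * cf F.law (idem E) β = if α = β then cf F.law (idem E) α else 0 := by
  classical
  by_cases hdα : α.degree = d
  swap
  · rw [cf_eq_zero F.homog _ hdα, zero_mul]; simp
  have h := coeff_genMul F.mult (idem E) Finset.univ (Finset.subset_univ α.support)
    (Finset.subset_univ β.support)
  rw [← h, genMul, sum_mul_sum, map_sum]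
  simp only [LinearMap.rTensor_tmul, AlgHom.toLinearMap_apply, map_mul, polMap_X]
  rw [ev_sum_eq F.homog, MvPolynomial.coeff_sum]
  have h1 : ∀ γ : ι →₀ ℕ, (γ.prod fun i n => ((MvPolynomial.X (Sum.inl i) : MvPolynomial (ι ⊕ ι) A) *
      MvPolynomial.X (Sum.inr i)) ^ n) = MvPolynomial.monomial (pairIdx γ γ) 1 := by
    intro γ
    have e1 : (MvPolynomial.monomial (pairIdx γ γ) (1 : A)) =
        MvPolynomial.rename Sum.inl (MvPolynomial.monomial γ (1 : A)) *
          MvPolynomial.rename Sum.inr (MvPolynomial.monomial γ (1 : A)) := by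
      rw [MvPolynomial.rename_monomial, MvPolynomial.rename_monomial, MvPolynomial.monomial_mul,
        one_mul]
      rfl
    rw [e1, MvPolynomial.monomial_eq, MvPolynomial.C_1, one_mul]
    simp only [Finsupp.prod, map_prod, map_pow, MvPolynomial.rename_X, mul_pow,
      Finset.prod_mul_distrib]
  simp_rw [h1, cMap_apply, MvPolynomial.C_mul_monomial, mul_one, MvPolynomial.coeff_monomial]
  by_cases hab : α = β
  · subst hab
    rw [if_pos rfl, Finset.sum_eq_single α]
    · rw [if_pos rfl]
    · intro γ _ hγ
      rw [if_neg]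
      intro h2
      exact hγ (pairIdx_inj h2).1
    · intro h2
      exact absurd (Finset.mem_finsuppAntidiag'.mpr ⟨hdα, Finset.subset_univ _⟩) h2
  · rw [if_neg hab]
    refine Finset.sum_eq_zero fun γ _ => if_neg fun h2 => hab ?_
    obtain ⟨h3, h4⟩ := pairIdx_inj h2
    rw [← h3, ← h4]

theorem sum_cf [DecidableEq ι] : ∑ α ∈ Finset.univ.finsuppAntidiag d, cf F.law (idem E) α = 1 := by
  have h := val_sum E F (S := A) (fun _ => 1)
  have h1 : ∑ i, (1 : A) ⊗ₜ[A] idem E i = 1 := by
    rw [← TensorProduct.tmul_sum, sum_idem]; rfl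
  rw [h1, val_one F.law F.mult] at h
  rw [h]
  refine Finset.sum_congr rfl fun α _ => ?_
  simp [Finsupp.prod]

/-- A coefficient which does not involve the variable `i` gives an element of the kernel. -/
theorem cf_smul_mem_ker (α : ι →₀ ℕ) (i : ι) (hi : α i = 0) :
    cf F.law (idem E) α • idem E i ∈ PolLaw.ker F.law := by
  classical
  intro S _ _ z y
  rw [← val_inj]
  obtain ⟨z, rfl⟩ := exists_sum E z
  obtain ⟨y, rfl⟩ := exists_sum E y
  set c := cf F.law (idem E) α with hc
  have h1 : (∑ j, y j ⊗ₜ[A] idem E j) * (1 : S) ⊗ₜ[A] (c • idem E i) =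
      ∑ j, (if j = i then y i * algebraMap A S c else 0) ⊗ₜ[A] idem E j := by
    rw [Finset.sum_mul, Finset.sum_eq_single i]
    · rw [Finset.sum_eq_single i]
      · rw [if_pos rfl, Algebra.TensorProduct.tmul_mul_tmul, mul_one, mul_smul_comm, idem_mul,
          if_pos rfl, TensorProduct.tmul_smul, TensorProduct.smul_tmul', Algebra.smul_def, mul_comm]
      · intro j _ hj
        rw [if_neg hj, TensorProduct.zero_tmul]
      · intro h; exact absurd (Finset.mem_univ i) h
    · intro j _ hj
      rw [Algebra.TensorProduct.tmul_mul_tmul, mul_smul_comm, idem_mul, if_neg hj, smul_zero,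
        TensorProduct.tmul_zero]
    · intro h; exact absurd (Finset.mem_univ i) h
  have h2 : (∑ j, z j ⊗ₜ[A] idem E j) + (∑ j, y j ⊗ₜ[A] idem E j) * (1 : S) ⊗ₜ[A] (c • idem E i) =
      ∑ j, (z j + if j = i then y i * algebraMap A S c else 0) ⊗ₜ[A] idem E j := by
    rw [h1, ← Finset.sum_add_distrib]
    exact Finset.sum_congr rfl fun j _ => by rw [TensorProduct.add_tmul]
  rw [h2, val_sum, val_sum]
  refine Finset.sum_congr rfl fun β _ => ?_
  by_cases hβ : β = α
  · subst hβ
    congr 1
    refine Finsupp.prod_congr fun j hj => ?_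
    have hji : j ≠ i := by
      rintro rfl
      exact (Finsupp.mem_support_iff.mp hj) hi
    rw [if_neg hji, add_zero]
  · have h3 : cf F.law (idem E) β * c = 0 := by rw [hc, cf_mul_cf, if_neg hβ]
    set b := algebraMap A S (cf F.law (idem E) β) with hb
    have h4 : b * algebraMap A S c = 0 := by rw [hb, ← map_mul, h3, map_zero]
    -- multiply by `b`, the two products agree
    have h5 : ∀ (j : ι) (n : ℕ), b * (z j + if j = i then y i * algebraMap A S c else 0) ^ n =
        b * z j ^ n := by
      intro j n
      induction n with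
      | zero => simp
      | succ n ih =>
        rw [pow_succ, ← mul_assoc, ih, pow_succ]
        split_ifs with hj
        · rw [mul_add]
          have : b * z j ^ n * (y i * algebraMap A S c) =
              (b * algebraMap A S c) * (z j ^ n * y i) := by ring
          rw [this, h4, zero_mul, add_zero, mul_assoc]
        · rw [add_zero, mul_assoc]
    have h6 : ∀ s : Finset ι, b * ∏ j ∈ s, (z j + if j = i then y i * algebraMap A S c else 0) ^ β j =
        b * ∏ j ∈ s, z j ^ β j := by
      intro s
      induction s using Finset.induction_on with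
      | empty => simp
      | insert j s hj ih =>
        rw [Finset.prod_insert hj, Finset.prod_insert hj, mul_left_comm, ih, ← mul_assoc,
          mul_comm _ b, h5]
        ring
    exact h6 _

/-- With nilpotent kernel, only the coefficient of the product of all variables is non-zero. -/
theorem cf_eq [DecidableEq ι] (hd : Fintype.card ι = d) (hF : PolLaw.ker F.law ≤ nilradical P) (α : ι →₀ ℕ) :
    cf F.law (idem E) α = if (∀ i, α i = 1) then 1 else 0 := by
  classical
  have key : ∀ β : ι →₀ ℕ, (¬ ∀ i, β i = 1) → cf F.law (idem E) β = 0 := by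
    intro β hβ
    by_cases hdβ : β.degree = d
    swap
    · exact cf_eq_zero F.homog _ hdβ
    obtain ⟨i, hi⟩ : ∃ i, β i = 0 := by
      by_contra hcon
      push Not at hcon
      apply hβ
      intro i
      have h1 : ∑ j, β j = ∑ j : ι, 1 := by
        have h2 : β.degree = ∑ j, β j := by
          rw [Finsupp.degree_eq_sum]
        rw [← h2, hdβ]; simp [hd]
      have h3 : ∀ j ∈ Finset.univ, 1 ≤ β j := fun j _ => Nat.one_le_iff_ne_zero.mpr (hcon j)
      exact ((Finset.sum_eq_sum_iff_of_le h3).mp h1.symm i (Finset.mem_univ i)).symm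
    have h1 := hF (cf_smul_mem_ker E F β i hi)
    rw [mem_nilradical] at h1
    obtain ⟨m, hm⟩ := h1
    set c := cf F.law (idem E) β with hc
    have hcc : c * c = c := by rw [hc, cf_mul_cf, if_pos rfl]
    have h2 : (c • idem E i) * (c • idem E i) = c • idem E i := by
      rw [smul_mul_smul_comm, hcc, idem_mul, if_pos rfl]
    have h3 : c • idem E i = 0 := by
      have h4 : ∀ n : ℕ, (c • idem E i) ^ (n + 1) = c • idem E i := by
        intro n
        induction n with
        | zero => rw [zero_add, pow_one]
        | succ n ih => rw [pow_succ, ih, h2]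
      rw [← h4 m, pow_succ, hm, zero_mul]
    have h4 := congrFun (congrArg E h3) i
    rw [map_smul, E_idem, map_zero, Pi.smul_apply, Pi.single_eq_same, smul_eq_mul, mul_one] at h4
    exact h4
  split_ifs with hα
  · have h1 := sum_cf E F
    rw [Finset.sum_eq_single α] at h1
    · exact h1
    · intro β _ hβ
      apply key
      intro h
      exact hβ (by ext i; rw [h, hα])
    · intro h
      exfalso
      apply h
      refine Finset.mem_finsuppAntidiag'.mpr ⟨?_, Finset.subset_univ _⟩
      have h2 : α.degree = d := by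
        rw [Finsupp.degree_eq_sum]
        simp [hα, hd]
      exact h2
  · exact key α hα

include E in
/-- Uniqueness in the split case. -/
theorem law_unique (hd : Fintype.card ι = d) (G : PolLaw.MulLaw A P A d)
    (hF : PolLaw.ker F.law ≤ nilradical P) (hG : PolLaw.ker G.law ≤ nilradical P) :
    F.law = G.law := by
  classical
  refine ext_cf F.homog G.homog (span_idem E) fun α => ?_
  rw [cf_eq E F hd hF, cf_eq E G hd hG]

theorem norm_pi (x : ι → A) : Algebra.norm A x = ∏ i, x i := by
  classical
  rw [Algebra.norm_eq_matrix_det (Pi.basisFun A ι), ← Matrix.det_diagonal]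
  congr 1
  ext i j
  rw [Algebra.leftMulMatrix_eq_repr_mul]
  simp [Matrix.diagonal_apply, Pi.single_apply]
  
end Split

section Etale

variable {A B : Type u} [CommRing A] [CommRing B] [Algebra A B] {d : ℕ}

/-- A finite étale free algebra is split by a faithfully flat extension. -/
theorem exists_split [Module.Free A B] [Module.Finite A B] [Algebra.Etale A B]
    (hd : Module.finrank A B = d) :
    ∃ (T : Type u) (_ : CommRing T) (_ : Algebra A T) (_ : Module.FaithfullyFlat A T)
      (ι : Type u) (_ : Fintype ι), Fintype.card ι = d ∧ Nonempty ((T ⊗[A] B) ≃ₐ[T] (ι → T)) := by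
  cases subsingleton_or_nontrivial A with
  | inl h =>
    refine ⟨A, inferInstance, inferInstance, inferInstance, ULift (Fin d), inferInstance, by simp, ?_⟩
    haveI : Subsingleton B := RingHom.codomain_trivial (algebraMap A B)
    haveI : Subsingleton (A ⊗[A] B) := (TensorProduct.lid A B).toEquiv.subsingleton
    haveI : Subsingleton (ULift.{u} (Fin d) → A) := inferInstance
    let f : (A ⊗[A] B) →ₐ[A] (ULift.{u} (Fin d) → A) :=
      { toFun := fun _ => 0
        map_one' := Subsingleton.elim _ _
        map_mul' := fun _ _ => Subsingleton.elim _ _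
        map_zero' := Subsingleton.elim _ _
        map_add' := fun _ _ => Subsingleton.elim _ _
        commutes' := fun _ => Subsingleton.elim _ _ }
    exact ⟨AlgEquiv.ofBijective f ⟨fun _ _ _ => Subsingleton.elim _ _,
      fun y => ⟨0, Subsingleton.elim _ _⟩⟩⟩
  | inr h =>
    have h1 : Module.rankAtStalk (R := A) B = d := by
      rw [Module.rankAtStalk_eq_finrank_of_free, hd]
    obtain ⟨T, _, _, hT, _, _, hs⟩ := Algebra.IsFiniteSplit.exists_tensorProduct_of_etale h1
    obtain ⟨n, ⟨e⟩⟩ := hs.nonempty_algEquiv_fun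
    haveI : Nontrivial T := by
      by_contra hcon
      rw [not_nontrivial_iff_subsingleton] at hcon
      have h2 : Function.Injective (algebraMap A T) :=
        FaithfulSMul.algebraMap_injective A T
      haveI := h2.subsingleton
      exact not_subsingleton A this
    refine ⟨T, inferInstance, inferInstance, hT, ULift (Fin n), inferInstance, ?_, ?_⟩
    · have h3 := e.toLinearEquiv.finrank_eq
      rw [Module.finrank_baseChange, hd, Module.finrank_fin_fun] at h3
      simp [h3]
    · exact ⟨e.trans (AlgEquiv.piCongrLeft T (fun _ => T) (Equiv.ulift.{u} : ULift.{u} (Fin n) ≃ Fin n)).symm⟩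

theorem ker_eq_bot [Module.Free A B] [Module.Finite A B] [Algebra.Etale A B]
    (hd : Module.finrank A B = d) (N : PolLaw.MulLaw A B A d)
    (hN : ∀ (S : Type u) [CommRing S] [Algebra A S] (x : S ⊗[A] B),
      N.law.toFun' S x = Algebra.norm S x ⊗ₜ[A] (1 : A)) : PolLaw.ker N.law = ⊥ := by
  classical
  obtain ⟨T, _, _, _, ι, _, hι, ⟨E⟩⟩ := exists_split hd
  rw [eq_bot_iff]
  intro b hb
  have hv : ∀ x : T ⊗[A] B, val N.law T x = ∏ i, E x i := by
    intro x
    unfold val
    rw [hN, TensorProduct.rid_tmul, one_smul, ← Algebra.norm_eq_of_algEquiv E, norm_pi]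
  have h1 : E ((1 : T) ⊗ₜ[A] b) = 0 := by
    ext i
    have h := hb T (E.symm (1 - Pi.single i 1)) (E.symm (Pi.single i 1))
    rw [← val_inj, hv, hv, map_add, map_mul, AlgEquiv.apply_symm_apply,
      AlgEquiv.apply_symm_apply] at h
    rw [Finset.prod_eq_single i, Finset.prod_eq_zero (Finset.mem_univ i)] at h
    · simpa using h
    · simp
    · intro j _ hj
      simp [Pi.single_eq_of_ne hj]
    · intro h2; exact absurd (Finset.mem_univ i) h2
  have h2 : (1 : T) ⊗ₜ[A] b = 0 := by
    apply E.injective
    rw [h1, map_zero]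
  rw [Ideal.mem_bot]
  apply Module.FaithfullyFlat.tensorProduct_mk_injective (A := A) (B := T) B
  rw [TensorProduct.mk_apply, h2, map_zero]

theorem law_eq_of_split (T : Type u) [CommRing T] [Algebra A T] [Module.FaithfullyFlat A T]
    {ι : Type u} [Fintype ι] (hι : Fintype.card ι = d) (E : (T ⊗[A] B) ≃ₐ[T] (ι → T))
    (F G : PolLaw.MulLaw A B A d) (hF : PolLaw.ker F.law ≤ nilradical B)
    (hG : PolLaw.ker G.law ≤ nilradical B) : F.law = G.law := by
  have hk : ∀ H : PolLaw.MulLaw A B A d, PolLaw.ker H.law ≤ nilradical B →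
      PolLaw.ker (bcm H T).law ≤ nilradical (T ⊗[A] B) := by
    intro H hH
    rw [ker_bcm]
    have h1 := K756.Rad.radical_kerBC H T
    refine Ideal.le_radical.trans (h1.le.trans ?_)
    have h2 : (PolLaw.ker H.law).map (Algebra.TensorProduct.includeRight : B →ₐ[A] T ⊗[A] B) ≤
        nilradical (T ⊗[A] B) := by
      rw [Ideal.map_le_iff_le_comap]
      intro b hb
      rw [Ideal.mem_comap, mem_nilradical]
      exact (mem_nilradical.mp (hH hb)).map _
    refine (Ideal.radical_mono h2).trans ?_
    rw [nilradical, Ideal.radical_idem]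
  have h1 := law_unique E (bcm F T) hι (bcm G T) (hk F hF) (hk G hG)
  refine ext_mvPolynomial fun n x => ?_
  rw [toFun'_eq_val_tmul, toFun'_eq_val_tmul]
  congr 1
  set S := MvPolynomial (Fin n) A
  let inc : S →ₐ[A] T ⊗[A] S := Algebra.TensorProduct.includeRight
  have hinc : Function.Injective inc :=
    Module.FaithfullyFlat.tensorProduct_mk_injective (A := A) (B := T) S
  apply hinc
  rw [← val_bmap, ← val_bmap]
  have h2 : ∀ H : PolLaw.MulLaw A B A d, val H.law (T ⊗[A] S) (bmap inc B x) =
      val (bcm H T).law (T ⊗[A] S) ((can A B T (T ⊗[A] S)).symm (bmap inc B x)) := by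
    intro H
    rw [bcm_law, val_bcl, AlgEquiv.apply_symm_apply]
  rw [h2, h2, h1]

theorem main [Module.Free A B] [Module.Finite A B] [Algebra.Etale A B]
    (hd : Module.finrank A B = d) (N : PolLaw.MulLaw A B A d)
    (hN : ∀ (S : Type u) [CommRing S] [Algebra A S] (x : S ⊗[A] B),
      N.law.toFun' S x = Algebra.norm S x ⊗ₜ[A] (1 : A)) :
    PolLaw.ker N.law = ⊥ ∧
      ∀ F : PolLaw.MulLaw A B A d, PolLaw.ker F.law ≤ nilradical B → F = N := by
  refine ⟨ker_eq_bot hd N hN, fun F hF => ?_⟩
  obtain ⟨T, _, _, _, ι, _, hι, ⟨E⟩⟩ := exists_split (A := A) (B := B) hd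
  have h := law_eq_of_split T hι E F N hF (by rw [ker_eq_bot hd N hN]; exact bot_le)
  cases F
  cases N
  cases h
  rfl

end Etale

end K756.NormEt
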