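import Groth.Agent.ZeroCyc.K756.BC
import Groth.Agent.ZeroCyc.K757.CH
import Mathlib.RingTheory.IntegralClosure.IsIntegral.Basic
import Mathlib.RingTheory.IntegralClosure.Algebra.Defs

/-!
The characteristic polynomial of an element with respect to a multiplicative law `B → A`, the
Cayley–Hamilton theorem, integrality of the image.
-/

set_option autoImplicit false
set_option linter.style.haveILetI false

universe u

open scoped TensorProduct

namespace K756.CharP

open K756.KerBC K756.Sat K756.BC K757.Ev K757.Coeff K757.CH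

variable {A : Type u} [CommRing A] {B : Type u} [CommRing B] [Algebra A B]

theorem ev_eq_val (F : B →ₚₗ[A] A) {T : Type u} [CommSemiring T] [Algebra A T] (g : A →ₐ[A] T)
    (x : T ⊗[A] B) : ev F g x = val F T x := by
  unfold ev val
  generalize F.toFun' T x = z
  induction z using TensorProduct.induction_on with
  | zero => simp
  | tmul t a =>
    rw [mulMap_tmul, TensorProduct.rid_tmul, Algebra.smul_def, mul_comm]
    congr 1
    exact g.commutes a
  | add a b ha hb => simp only [map_add, ha, hb]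

/-- The characteristic polynomial. -/
noncomputable def chp (F : B →ₚₗ[A] A) (b : B) : Polynomial A :=
  val F (Polynomial A) ((1 : Polynomial A) ⊗ₜ[A] b - Polynomial.X ⊗ₜ[A] (1 : B))

/-- Evaluation of the characteristic polynomial in an algebra. -/
theorem aeval_chp (F : B →ₚₗ[A] A) (b : B) {S : Type u} [CommRing S] [Algebra A S] (s : S) :
    Polynomial.aeval s (chp F b) = val F S (1 ⊗ₜ[A] b - s ⊗ₜ[A] 1) := by
  rw [chp, ← val_bmap, map_sub]
  simp

/-- **Cayley–Hamilton.** -/
theorem aeval_chp_mem_ker {d : ℕ} (F : PolLaw.MulLaw A B A d) (b : B) :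
    Polynomial.aeval b (chp F.law b) ∈ PolLaw.ker F.law := by
  have h := chB_mem_ker F b
  have h2 : TensorProduct.lid A B (chB F.law (AlgHom.id A A) (1 ⊗ₜ[A] b)) =
      Polynomial.aeval b (chp F.law b) := by
    rw [aeval_chp, chB, ev_eq_val]
    have h3 : ∀ z : (A ⊗[A] B) ⊗[A] B, val F.law B
        (bmap (Algebra.TensorProduct.lid A B : A ⊗[A] B →ₐ[A] B) B z) =
        (Algebra.TensorProduct.lid A B : A ⊗[A] B →ₐ[A] B) (val F.law (A ⊗[A] B) z) :=
      fun z => val_bmap F.law _ z
    refine (h3 _).symm.trans ?_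
    congr 1
    rw [map_sub]
    simp
  rw [← h2]
  exact h

theorem chp_of_mem_ker {d : ℕ} (F : PolLaw.MulLaw A B A d) {b : B} (hb : b ∈ PolLaw.ker F.law) :
    chp F.law b = (-Polynomial.X) ^ d := by
  have h1 := hb (Polynomial A) (-(Polynomial.X ⊗ₜ[A] (1 : B))) 1
  rw [one_mul, ← val_inj] at h1
  have h2 : (1 : Polynomial A) ⊗ₜ[A] b - Polynomial.X ⊗ₜ[A] (1 : B) =
      -(Polynomial.X ⊗ₜ[A] (1 : B)) + 1 ⊗ₜ[A] b := by ring
  rw [chp, h2, h1]
  have h3 : -((Polynomial.X : Polynomial A) ⊗ₜ[A] (1 : B)) =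
      (-Polynomial.X : Polynomial A) • (1 : Polynomial A ⊗[A] B) := by
    rw [Algebra.TensorProduct.one_def, TensorProduct.smul_tmul', smul_eq_mul, mul_one,
      TensorProduct.neg_tmul]
  rw [h3, val_smul F.law F.homog, val_one F.law F.mult, mul_one]

open Classical in
/-- the expansion of the characteristic polynomial. -/
theorem chp_expand {d : ℕ} (F : PolLaw.MulLaw A B A d) (b : B) :
    (chp F.law b).natDegree ≤ d ∧ (chp F.law b).coeff d = (-1) ^ d := by
  let e : ULift.{u} Bool → B := fun i => if i.down then 1 else b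
  let s : Finset (ULift.{u} Bool) := Finset.univ
  have hval : ∀ (T : Type u) [CommRing T] [Algebra A T] (t : ULift.{u} Bool → T),
      val F.law T (∑ i ∈ s, t i ⊗ₜ[A] e i) =
        ∑ α ∈ s.finsuppAntidiag d, algebraMap A T (cf F.law e α) *
          (t ⟨false⟩ ^ α ⟨false⟩ * t ⟨true⟩ ^ α ⟨true⟩) := by
    intro T _ _ t
    rw [← ev_eq_val F.law (Algebra.ofId A T), ev_sum_eq F.homog]
    refine Finset.sum_congr rfl fun α _ => ?_
    congr 1
    rw [Finsupp.prod_fintype _ _ (fun i => pow_zero _)]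
    have : (Finset.univ : Finset (ULift.{u} Bool)) = {⟨false⟩, ⟨true⟩} := by
      ext ⟨i⟩; cases i <;> simp
    rw [this, Finset.prod_pair (by simp)]
  have hdeg : ∀ α ∈ s.finsuppAntidiag d, α ⟨false⟩ + α ⟨true⟩ = d := by
    intro α hα
    rw [Finset.mem_finsuppAntidiag] at hα
    have h1 := hα.1
    have : s = {⟨false⟩, ⟨true⟩} := by
      ext ⟨i⟩; cases i <;> simp [s]
    rw [this, Finset.sum_pair (by simp)] at h1
    exact h1
  have hs : ∀ (T : Type u) [CommRing T] [Algebra A T] (t : ULift.{u} Bool → T),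
      ∑ i ∈ s, t i ⊗ₜ[A] e i = t ⟨false⟩ ⊗ₜ[A] b + t ⟨true⟩ ⊗ₜ[A] 1 := by
    intro T _ _ t
    have : s = {⟨false⟩, ⟨true⟩} := by
      ext ⟨i⟩; cases i <;> simp [s]
    rw [this, Finset.sum_pair (by simp)]
    simp [e]
  have hchp : chp F.law b = ∑ α ∈ s.finsuppAntidiag d,
      Polynomial.C (cf F.law e α * (-1) ^ α ⟨true⟩) * Polynomial.X ^ α ⟨true⟩ := by
    have h1 := hval (Polynomial A) (fun i => if i.down then -Polynomial.X else 1)
    rw [hs] at h1
    have h2 : chp F.law b = val F.law (Polynomial A) ((if (⟨false⟩ : ULift.{u} Bool).down then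
        -Polynomial.X else 1 : Polynomial A) ⊗ₜ[A] b +
        (if (⟨true⟩ : ULift.{u} Bool).down then -Polynomial.X else 1 : Polynomial A) ⊗ₜ[A] 1) := by
      simp only [chp, Bool.false_eq_true, if_false, if_true, TensorProduct.neg_tmul,
        sub_eq_add_neg]
    rw [h2, h1]
    refine Finset.sum_congr rfl fun α _ => ?_
    have h3 : (-Polynomial.X : Polynomial A) ^ α ⟨true⟩ =
        Polynomial.C ((-1) ^ α ⟨true⟩) * Polynomial.X ^ α ⟨true⟩ := by
      rw [neg_pow]; simp
    simp only [Bool.false_eq_true, if_false, if_true, one_pow, one_mul]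
    rw [h3, map_mul, mul_assoc]
    rfl
  have hone : ∑ α ∈ s.finsuppAntidiag d, (if α ⟨true⟩ = d then cf F.law e α else 0) = 1 := by
    have h1 := hval A (fun i => if i.down then 1 else 0)
    rw [hs] at h1
    have h2 : val F.law A ((if (⟨false⟩ : ULift.{u} Bool).down then (1 : A) else 0) ⊗ₜ[A] b +
        (if (⟨true⟩ : ULift.{u} Bool).down then (1 : A) else 0) ⊗ₜ[A] 1) = 1 := by
      simp only [Bool.false_eq_true, if_false, if_true, TensorProduct.zero_tmul, zero_add]
      exact val_one F.law F.mult A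
    rw [h2] at h1
    rw [h1]
    refine Finset.sum_congr rfl fun α hα => ?_
    have h3 := hdeg α hα
    simp only [Bool.false_eq_true, if_false, if_true, one_pow, mul_one]
    split_ifs with h
    · have : α ⟨false⟩ = 0 := by omega
      rw [this, pow_zero, mul_one]; rfl
    · rw [zero_pow (by omega), mul_zero]
  constructor
  · rw [hchp]
    refine Polynomial.natDegree_sum_le_of_forall_le _ _ fun α hα => ?_
    refine (Polynomial.natDegree_C_mul_X_pow_le _ _).trans ?_
    have := hdeg α hα
    omega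
  · rw [hchp, Polynomial.finsetSum_coeff]
    have h4 : ∀ α ∈ s.finsuppAntidiag d, (Polynomial.C (cf F.law e α * (-1) ^ α ⟨true⟩) *
        Polynomial.X ^ α ⟨true⟩).coeff d = (-1) ^ d * (if α ⟨true⟩ = d then cf F.law e α else 0) := by
      intro α _
      rw [Polynomial.coeff_C_mul, Polynomial.coeff_X_pow]
      by_cases h : d = α ⟨true⟩
      · rw [if_pos h, if_pos h.symm, mul_one, ← h, mul_comm]
      · rw [if_neg h, if_neg (Ne.symm h), mul_zero, mul_zero]
    rw [Finset.sum_congr rfl h4, ← Finset.mul_sum, hone, mul_one]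

/-- **The image is integral.** -/
theorem isIntegral_image {d : ℕ} (F : PolLaw.MulLaw A B A d) :
    Algebra.IsIntegral A (PolLaw.image F.law) := by
  refine ⟨fun z => ?_⟩
  obtain ⟨b, rfl⟩ := Ideal.Quotient.mk_surjective z
  obtain ⟨h1, h2⟩ := chp_expand F b
  refine ⟨Polynomial.C ((-1) ^ d) * chp F.law b, ?_, ?_⟩
  · refine Polynomial.monic_of_natDegree_le_of_coeff_eq_one d
      ((Polynomial.natDegree_C_mul_le _ _).trans h1) ?_
    rw [Polynomial.coeff_C_mul, h2, ← mul_pow]
    simp
  · have h3 : Polynomial.aeval (Ideal.Quotient.mk (PolLaw.ker F.law) b) (chp F.law b) = 0 := by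
      have h4 : Polynomial.aeval (Ideal.Quotient.mkₐ A (PolLaw.ker F.law) b) (chp F.law b) =
          Ideal.Quotient.mkₐ A (PolLaw.ker F.law) (Polynomial.aeval b (chp F.law b)) :=
        (Polynomial.aeval_algHom_apply _ _ _)
      refine Eq.trans h4 ?_
      exact Ideal.Quotient.eq_zero_iff_mem.mpr (aeval_chp_mem_ker F b)
    rw [← Polynomial.aeval_def, map_mul, h3, mul_zero]

/-- Cayley–Hamilton ideal. -/
theorem span_le_and_le_radical {d : ℕ} (F : PolLaw.MulLaw A B A d) :
    Ideal.span (Set.range fun b : B => Polynomial.aeval b (chp F.law b)) ≤ PolLaw.ker F.law ∧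
      PolLaw.ker F.law ≤
        (Ideal.span (Set.range fun b : B => Polynomial.aeval b (chp F.law b))).radical := by
  constructor
  · rw [Ideal.span_le]
    rintro _ ⟨b, rfl⟩
    exact aeval_chp_mem_ker F b
  · intro b hb
    refine ⟨d, ?_⟩
    have h1 : Polynomial.aeval b (chp F.law b) = (-b) ^ d := by
      rw [chp_of_mem_ker F hb]; simp
    have h2 : b ^ d = (-1) ^ d * Polynomial.aeval b (chp F.law b) := by
      rw [h1, ← mul_pow]; simp
    rw [h2]
    exact Ideal.mul_mem_left _ _ (Ideal.subset_span ⟨b, rfl⟩)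

end K756.CharP
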