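import Groth.Agent.ZeroCyc.K756.CharP

/-!
The radical of the kernel of a multiplicative law commutes with base change.
-/

set_option autoImplicit false
set_option linter.style.haveILetI false

universe u

open scoped TensorProduct

namespace K756.Rad

open K756.KerBC K756.Sat K756.BC K756.CharP K757.Ev K757.Coeff K757.CH

variable {A : Type u} [CommRing A] {B : Type u} [CommRing B] [Algebra A B] {d : ℕ}

/-- The Cayley–Hamilton elements of `A' ⊗ B` lie in `kerBC F A'`. -/
theorem chB_mem_kerBC (F : PolLaw.MulLaw A B A d) (A' : Type u) [CommRing A'] [Algebra A A']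
    (b' : A' ⊗[A] B) : chB F.law (Algebra.ofId A A') b' ∈ PolLaw.kerBC F.law A' := by
  rw [mem_kerBC_iff_mv]
  intro σ x w
  rw [← val_inj, ← ev_eq_val F.law (Algebra.ofId A _), ← ev_eq_val F.law (Algebra.ofId A _)]
  have h := chB_bc F.law (IsScalarTower.toAlgHom A A' (MvPolynomial σ A')) (Algebra.ofId A A') b'
  rw [show bmap (IsScalarTower.toAlgHom A A' (MvPolynomial σ A')) B
    (chB F.law (Algebra.ofId A A') b') = _ from h]
  have h2 : (IsScalarTower.toAlgHom A A' (MvPolynomial σ A')).comp (Algebra.ofId A A') =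
      Algebra.ofId A (MvPolynomial σ A') := Subsingleton.elim _ _
  rw [h2]
  exact cayleyHamilton F _ _ _ _

theorem chB_of_mem_kerBC (F : PolLaw.MulLaw A B A d) (A' : Type u) [CommRing A'] [Algebra A A']
    {b' : A' ⊗[A] B} (hb : b' ∈ PolLaw.kerBC F.law A') :
    chB F.law (Algebra.ofId A A') b' = (-b') ^ d := by
  have h1 := hb (A' ⊗[A] B) (-(b' ⊗ₜ[A] (1 : B))) 1
  rw [one_mul, ← val_inj] at h1
  have h2 : chB F.law (Algebra.ofId A A') b' = val F.law (A' ⊗[A] B) (-(b' ⊗ₜ[A] (1 : B)) +
      bmap (IsScalarTower.toAlgHom A A' (A' ⊗[A] B)) B b') := by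
    rw [chB, ev_eq_val]
    congr 1
    rw [sub_eq_add_neg, add_comm]
    rfl
  rw [h2, h1]
  have h3 : -(b' ⊗ₜ[A] (1 : B)) = (-b') • (1 : (A' ⊗[A] B) ⊗[A] B) := by
    rw [Algebra.TensorProduct.one_def, TensorProduct.smul_tmul', smul_eq_mul, mul_one,
      TensorProduct.neg_tmul]
  rw [h3, val_smul F.law F.homog, val_one F.law F.mult, mul_one]

/-- Elements of `kerBC F A'` have their `d`-th power in the extension of `ker F`. -/
theorem pow_mem_map_ker (F : PolLaw.MulLaw A B A d) (A' : Type u) [CommRing A'] [Algebra A A']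
    {b' : A' ⊗[A] B} (hb : b' ∈ PolLaw.kerBC F.law A') :
    b' ^ d ∈ (PolLaw.ker F.law).map
      (Algebra.TensorProduct.includeRight : B →ₐ[A] A' ⊗[A] B) := by
  obtain ⟨n, ψ, b'', h⟩ := PolynomialLaw.exists_lift b'
  rw [← bmap_eq_rTensor] at h
  have h1 := good_mvPolynomial_fin F.law n (chB_mem_kerBC F (MvPolynomial (Fin n) A) b'')
  have h2 := bmap_mem_map_ker F.law ψ h1
  have h3 : bmap ψ B (chB F.law (Algebra.ofId A (MvPolynomial (Fin n) A)) b'') =
      chB F.law (Algebra.ofId A A') b' := by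
    refine (chB_bc F.law ψ (Algebra.ofId A _) b'').trans ?_
    rw [show bc B ψ b'' = b' from h]
    congr 1
    exact Subsingleton.elim _ _
  rw [h3, chB_of_mem_kerBC F A' hb] at h2
  have h4 : b' ^ d = (-1) ^ d * (-b') ^ d := by
    rw [← mul_pow]; simp
  rw [h4]
  exact Ideal.mul_mem_left _ _ h2

/-- **The support commutes with base change.** -/
theorem radical_kerBC (F : PolLaw.MulLaw A B A d) (A' : Type u) [CommRing A'] [Algebra A A'] :
    (PolLaw.kerBC F.law A').radical =
      ((PolLaw.ker F.law).map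
        (Algebra.TensorProduct.includeRight : B →ₐ[A] A' ⊗[A] B)).radical := by
  apply le_antisymm
  · rw [Ideal.radical_le_radical_iff]
    intro b' hb
    exact ⟨d, pow_mem_map_ker F A' hb⟩
  · exact Ideal.radical_mono (map_ker_le_kerBC F.law A')

end K756.Rad
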