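import Groth.Agent.ZeroCyc.K756.Sat
import Mathlib.RingTheory.Finiteness.Basic
import Mathlib.Algebra.Module.LocalizedModule.Basic
import Mathlib.RingTheory.Localization.BaseChange

/-!
Generic elements for a finite algebra, and kernels of base changes to localizations.
-/

set_option autoImplicit false

universe u

open scoped TensorProduct

namespace K756.FinGen

open K756.KerBC K756.Sat

variable {A : Type u} [CommRing A] {B : Type u} [CommRing B] [Algebra A B]

/-- The generic elements `∑ X_i ⊗ e_i`. -/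
noncomputable def gen {n : ℕ} (e : Fin n → B) (A' : Type u) [CommRing A'] [Algebra A A']
    (ε : Fin n → Fin n ⊕ Fin n) : MvPolynomial (Fin n ⊕ Fin n) A' ⊗[A] B :=
  ∑ i, (MvPolynomial.X (ε i) : MvPolynomial (Fin n ⊕ Fin n) A') ⊗ₜ[A] e i

theorem exists_sum_of_span {n : ℕ} {e : Fin n → B} (he : Submodule.span A (Set.range e) = ⊤)
    (R : Type u) [CommSemiring R] [Algebra A R] (x : R ⊗[A] B) :
    ∃ r : Fin n → R, x = ∑ i, r i ⊗ₜ[A] e i := by
  induction x using TensorProduct.induction_on with
  | zero => exact ⟨0, by simp⟩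
  | tmul s b =>
    have hb : b ∈ Submodule.span A (Set.range e) := he ▸ Submodule.mem_top
    rw [Submodule.mem_span_range_iff_exists_fun] at hb
    obtain ⟨c, rfl⟩ := hb
    refine ⟨fun i => c i • s, ?_⟩
    rw [TensorProduct.tmul_sum]
    exact Finset.sum_congr rfl fun i _ => by rw [TensorProduct.tmul_smul, TensorProduct.smul_tmul']
  | add x y hx hy =>
    obtain ⟨r, rfl⟩ := hx
    obtain ⟨t, rfl⟩ := hy
    refine ⟨r + t, ?_⟩
    rw [← Finset.sum_add_distrib]
    exact Finset.sum_congr rfl fun i _ => by rw [Pi.add_apply, TensorProduct.add_tmul]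

/-- Any pair of elements over an `A'`-algebra is a specialization of the generic pair. -/
theorem exists_specialization {n : ℕ} {e : Fin n → B}
    (he : Submodule.span A (Set.range e) = ⊤) (A' : Type u) [CommRing A'] [Algebra A A']
    (R : Type u) [CommSemiring R] [Algebra A R] [Algebra A' R] [IsScalarTower A A' R]
    (x w : R ⊗[A] B) : ∃ ψ : MvPolynomial (Fin n ⊕ Fin n) A' →ₐ[A'] R,
      bmap (ψ.restrictScalars A) B (gen e A' Sum.inl) = x ∧
      bmap (ψ.restrictScalars A) B (gen e A' Sum.inr) = w := by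
  obtain ⟨r, rfl⟩ := exists_sum_of_span he R x
  obtain ⟨t, rfl⟩ := exists_sum_of_span he R w
  refine ⟨MvPolynomial.aeval (Sum.elim r t), ?_, ?_⟩
  · simp only [gen, map_sum, Algebra.TensorProduct.map_tmul, AlgHom.id_apply,
      AlgHom.restrictScalars_apply, MvPolynomial.aeval_X, Sum.elim_inl]
  · simp only [gen, map_sum, Algebra.TensorProduct.map_tmul, AlgHom.id_apply,
      AlgHom.restrictScalars_apply, MvPolynomial.aeval_X, Sum.elim_inr]

/-- Membership in `kerBC` can be tested on the generic elements if `B` is finite over `A`. -/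
theorem mem_kerBC_of_gen (F : B →ₚₗ[A] A) {n : ℕ} {e : Fin n → B}
    (he : Submodule.span A (Set.range e) = ⊤) (A' : Type u) [CommRing A'] [Algebra A A']
    (b' : A' ⊗[A] B)
    (h : F.toFun' (MvPolynomial (Fin n ⊕ Fin n) A') (gen e A' Sum.inl + gen e A' Sum.inr *
        bmap (IsScalarTower.toAlgHom A A' (MvPolynomial (Fin n ⊕ Fin n) A')) B b') =
      F.toFun' (MvPolynomial (Fin n ⊕ Fin n) A') (gen e A' Sum.inl)) :
    b' ∈ PolLaw.kerBC F A' := by
  intro R _ _ _ _ x w
  obtain ⟨ψ, rfl, rfl⟩ := exists_specialization he A' R x w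
  have hc : IsScalarTower.toAlgHom A A' R = (ψ.restrictScalars A).comp
      (IsScalarTower.toAlgHom A A' (MvPolynomial (Fin n ⊕ Fin n) A')) := by
    ext a
    simp only [IsScalarTower.coe_toAlgHom', AlgHom.coe_comp, Function.comp_apply,
      AlgHom.restrictScalars_apply, AlgHom.commutes]
  have hb : Algebra.TensorProduct.map (IsScalarTower.toAlgHom A A' R) (AlgHom.id A B) b' =
      bmap (ψ.restrictScalars A) B
        (bmap (IsScalarTower.toAlgHom A A' (MvPolynomial (Fin n ⊕ Fin n) A')) B b') := by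
    rw [bmap_bmap, ← hc]
  rw [hb, ← map_mul, ← map_add, toFun'_bmap, toFun'_bmap, h]

theorem mem_ker_of_gen (F : B →ₚₗ[A] A) {n : ℕ} {e : Fin n → B}
    (he : Submodule.span A (Set.range e) = ⊤) (b : B)
    (h : F.toFun' (MvPolynomial (Fin n ⊕ Fin n) A) (gen e A Sum.inl + gen e A Sum.inr *
        (1 ⊗ₜ[A] b)) = F.toFun' (MvPolynomial (Fin n ⊕ Fin n) A) (gen e A Sum.inl)) :
    b ∈ PolLaw.ker F := by
  rw [← mem_ker_iff_mem_kerBC_self]
  refine mem_kerBC_of_gen F he A _ ?_
  rw [Algebra.TensorProduct.map_tmul, map_one]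
  exact h

/-- A polynomial over `A` which dies in `A'[s]`, `A'` a localization, is killed by an element of
the monoid. -/
theorem exists_mul_eq_zero_mv {A' : Type u} [CommRing A'] [Algebra A A'] (M : Submonoid A)
    [IsLocalization M A'] {σ : Type*} (p : MvPolynomial σ A)
    (hp : MvPolynomial.map (algebraMap A A') p = 0) : ∃ m ∈ M, MvPolynomial.C m * p = 0 := by
  classical
  have h1 : ∀ i : σ →₀ ℕ, ∃ m : M, (m : A) * p.coeff i = 0 := by
    intro i
    have h2 : algebraMap A A' (p.coeff i) = 0 := by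
      rw [← MvPolynomial.coeff_map, hp, MvPolynomial.coeff_zero]
    exact (IsLocalization.map_eq_zero_iff M A' _).mp h2
  choose m hm using h1
  refine ⟨∏ i ∈ p.support, (m i : A), prod_mem fun i _ => (m i).2, ?_⟩
  ext i
  rw [MvPolynomial.coeff_C_mul, MvPolynomial.coeff_zero]
  by_cases hi : i ∈ p.support
  · rw [← Finset.mul_prod_erase _ _ hi, mul_comm (m i : A), mul_assoc, hm, mul_zero]
  · rw [MvPolynomial.notMem_support_iff.mp hi, mul_zero]

theorem exists_mul_eq_zero_poly {A' : Type u} [CommRing A'] [Algebra A A'] (M : Submonoid A)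
    [IsLocalization M A'] {σ : Type*} (p : Polynomial (MvPolynomial σ A))
    (hp : p.map (MvPolynomial.map (algebraMap A A')) = 0) :
    ∃ m ∈ M, ∀ k, MvPolynomial.C m * p.coeff k = 0 := by
  classical
  have h1 : ∀ i : ℕ, ∃ m ∈ M, MvPolynomial.C m * p.coeff i = 0 := by
    intro i
    apply exists_mul_eq_zero_mv (A' := A') M
    rw [← Polynomial.coeff_map, hp, Polynomial.coeff_zero]
  choose m hmM hm using h1
  refine ⟨∏ i ∈ p.support, m i, prod_mem fun i _ => hmM i, fun i => ?_⟩
  by_cases hi : i ∈ p.support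
  · rw [← Finset.mul_prod_erase _ _ hi, map_mul, mul_comm (MvPolynomial.C (m i)), mul_assoc, hm,
      mul_zero]
  · rw [Polynomial.notMem_support_iff.mp hi, mul_zero]

/-- If `c` kills all coefficients of positive degree of `F (x + s v)`, then
`F (x + c v) = F x`. -/
theorem core' (F : B →ₚₗ[A] A) (R : Type u) [CommRing R] [Algebra A R] {c : R}
    (x v : R ⊗[A] B)
    (h : ∀ k, k ≠ 0 → c * (val F (Polynomial R) (bmap (polyC A R) B x +
        (Polynomial.X : Polynomial R) • bmap (polyC A R) B v)).coeff k = 0) :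
    F.toFun' R (x + c • v) = F.toFun' R x := by
  rw [← val_inj]
  set arg : Polynomial R ⊗[A] B := bmap (polyC A R) B x +
    (Polynomial.X : Polynomial R) • bmap (polyC A R) B v with harg
  have h3 : bmap (polyEval A c) B arg = x + c • v := by
    rw [harg, map_add, bmap_smul, bmap_bmap, bmap_bmap, polyEval_comp_polyC, bmap_id, bmap_id]
    simp [polyEval]
  have h4 : bmap (polyEval A (0 : R)) B arg = x := by
    rw [harg, map_add, bmap_smul, bmap_bmap, bmap_bmap, polyEval_comp_polyC, bmap_id, bmap_id]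
    simp [polyEval]
  have h5 : val F R (x + c • v) = (val F _ arg).eval c := by
    rw [← h3, val_bmap]; rfl
  have h6 : val F R x = (val F _ arg).eval 0 := by
    conv_lhs => rw [← h4, val_bmap]
    rfl
  rw [h5, h6, Polynomial.eval_eq_sum_range, Polynomial.eval_eq_sum_range]
  refine Finset.sum_congr rfl fun k _ => ?_
  rcases Nat.eq_zero_or_pos k with hk | hk
  · subst hk; simp
  · obtain ⟨j, rfl⟩ : ∃ j, k = j + 1 := ⟨k - 1, by omega⟩
    have h7 : (val F _ arg).coeff (j + 1) * c = 0 := by rw [mul_comm]; exact h _ (by omega)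
    rw [zero_pow (by omega), mul_zero, pow_succ', ← mul_assoc, h7, zero_mul]

/-- **Base change to a localization.** -/
theorem good_localization (F : B →ₚₗ[A] A) [Module.Finite A B] (M : Submonoid A) (A' : Type u)
    [CommRing A'] [Algebra A A'] [IsLocalization M A'] : Good F A' := by
  obtain ⟨n, e, he⟩ := Module.Finite.exists_fin (R := A) (M := B)
  intro b' hb'
  -- write `m b' = 1 ⊗ b`
  have : IsLocalizedModule M (TensorProduct.mk A A' B 1) :=
    (isLocalizedModule_iff_isBaseChange M A' _).mpr (TensorProduct.isBaseChange A B A')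
  obtain ⟨⟨b, m⟩, hbm⟩ := IsLocalizedModule.surj M (TensorProduct.mk A A' B 1) b'
  have hbm' : (m : A) • b' = (1 : A') ⊗ₜ[A] b := hbm
  have hb : (1 : A') ⊗ₜ[A] b ∈ PolLaw.kerBC F A' := by
    rw [← hbm', ← algebraMap_smul (A' ⊗[A] B) (m : A) b', smul_eq_mul]
    exact Ideal.mul_mem_left _ _ hb'
  -- the generic situation over `A`
  set R := MvPolynomial (Fin n ⊕ Fin n) A with hR
  let R' := MvPolynomial (Fin n ⊕ Fin n) A'
  let x : R ⊗[A] B := gen e A Sum.inl
  let v : R ⊗[A] B := gen e A Sum.inr * (1 ⊗ₜ[A] b)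
  let G : Polynomial R := val F (Polynomial R) (bmap (polyC A R) B x +
        (Polynomial.X : Polynomial R) • bmap (polyC A R) B v)
  let φ : R →ₐ[A] R' := MvPolynomial.mapAlgHom (Algebra.ofId A A')
  let φ' : Polynomial R →ₐ[A] Polynomial R' := Polynomial.mapAlgHom φ
  have hφ' : φ'.comp (polyC A R) = (polyC A R').comp φ := by
    apply AlgHom.ext
    intro r
    exact Polynomial.map_C _
  have hG : φ' G = Polynomial.C (φ (val F R x)) := by
    have h1 : bmap φ' B (bmap (polyC A R) B x +
        (Polynomial.X : Polynomial R) • bmap (polyC A R) B v) =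
        bmap (polyC A R') B (bmap φ B x) +
          ((Polynomial.X : Polynomial R') • bmap (polyC A R') B (bmap φ B (gen e A Sum.inr))) *
            (1 ⊗ₜ[A] b) := by
      have h2 : φ' (Polynomial.X : Polynomial R) = Polynomial.X := Polynomial.map_X _
      rw [map_add, bmap_smul, bmap_bmap, bmap_bmap, hφ', ← bmap_bmap, ← bmap_bmap, h2]
      simp only [v, map_mul, smul_mul_assoc, Algebra.TensorProduct.map_tmul, map_one,
        AlgHom.id_apply]
    have h3 : F.toFun' (Polynomial R') (bmap φ' B (bmap (polyC A R) B x +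
        (Polynomial.X : Polynomial R) • bmap (polyC A R) B v)) =
        F.toFun' (Polynomial R') (bmap (polyC A R') B (bmap φ B x)) := by
      rw [h1]
      exact (one_tmul_mem_kerBC_iff F A' b).mp hb (Polynomial R') _ _
    have h4 : val F (Polynomial R') (bmap φ' B (bmap (polyC A R) B x +
        (Polynomial.X : Polynomial R) • bmap (polyC A R) B v)) =
        val F (Polynomial R') (bmap (polyC A R') B (bmap φ B x)) := (val_inj F).mpr h3
    rw [val_bmap, val_bmap, val_bmap] at h4
    exact h4
  obtain ⟨c, hcM, hc⟩ := exists_mul_eq_zero_poly (A' := A') M (G - Polynomial.C (val F R x)) (by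
    have h5 : φ' (G - Polynomial.C (val F R x)) = 0 := by
      rw [map_sub, hG]
      have : φ' (Polynomial.C (val F R x)) = Polynomial.C (φ (val F R x)) := Polynomial.map_C _
      rw [this, sub_self]
    exact h5)
  have h6 : F.toFun' R (x + (MvPolynomial.C c : R) • v) = F.toFun' R x := by
    apply core'
    intro k hk
    have := hc k
    rwa [Polynomial.coeff_sub, Polynomial.coeff_C_of_ne_zero hk, sub_zero] at this
  have h7 : c • b ∈ PolLaw.ker F := by
    refine mem_ker_of_gen F he _ ?_
    have h8 : (MvPolynomial.C c : R) • v = gen e A Sum.inr * (1 ⊗ₜ[A] (c • b)) := by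
      have h9 : (MvPolynomial.C c : R) = algebraMap A R c := rfl
      rw [TensorProduct.tmul_smul, mul_smul_comm, h9, algebraMap_smul]
    rw [← h8]
    exact h6
  -- conclusion
  have h10 : (c * m : A) • b' ∈
      (PolLaw.ker F).map (Algebra.TensorProduct.includeRight : B →ₐ[A] A' ⊗[A] B) := by
    rw [mul_smul, hbm', ← TensorProduct.tmul_smul]
    exact Ideal.mem_map_of_mem (Algebra.TensorProduct.includeRight : B →ₐ[A] A' ⊗[A] B) h7
  have hu : IsUnit (algebraMap A A' (c * m)) :=
    IsLocalization.map_units A' (⟨c * m, M.mul_mem hcM m.2⟩ : M)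
  rw [← algebraMap_smul A' (c * (m : A)) b'] at h10
  obtain ⟨u, hu⟩ := hu
  rw [← hu] at h10
  have h11 : b' = algebraMap A' (A' ⊗[A] B) ((u⁻¹ : A'ˣ) : A') * ((u : A') • b') := by
    rw [Algebra.smul_def, ← mul_assoc, ← map_mul, Units.inv_mul, map_one, one_mul]
  rw [h11]
  exact Ideal.mul_mem_left _ _ h10

end K756.FinGen
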