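import Groth.Agent.ZeroCyc.K756.KerBC
import Mathlib.Algebra.Polynomial.AlgebraMap
import Mathlib.Algebra.GroupWithZero.NonZeroDivisors
import Mathlib.Algebra.MvPolynomial.Equiv

/-!
Saturation of kernels of base changes, and base change to a polynomial ring.
-/

set_option autoImplicit false

universe u

open scoped TensorProduct

namespace K756.Sat

open K756.KerBC

variable {A : Type u} [CommRing A] {B : Type u} [CommRing B] [Algebra A B]

/-- The value of a law with values in the base ring, as an element of the test algebra. -/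
noncomputable def val (F : B →ₚₗ[A] A) (S : Type u) [CommSemiring S] [Algebra A S]
    (x : S ⊗[A] B) : S := TensorProduct.rid A S (F.toFun' S x)

theorem val_bmap (F : B →ₚₗ[A] A) {S S' : Type u} [CommSemiring S] [Algebra A S]
    [CommSemiring S'] [Algebra A S'] (φ : S →ₐ[A] S') (x : S ⊗[A] B) :
    val F S' (bmap φ B x) = φ (val F S x) := by
  unfold val
  rw [toFun'_bmap]
  generalize F.toFun' S x = z
  induction z using TensorProduct.induction_on with
  | zero => simp
  | tmul s a => simp
  | add x y hx hy => simp only [map_add, hx, hy]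

theorem val_inj (F : B →ₚₗ[A] A) {S : Type u} [CommSemiring S] [Algebra A S]
    {x y : S ⊗[A] B} : val F S x = val F S y ↔ F.toFun' S x = F.toFun' S y :=
  (TensorProduct.rid A S).injective.eq_iff

/-- If `a` is a non-zero-divisor of `A'`, multiplication by `C a` is injective on `A'[σ]`. -/
theorem C_mem_nonZeroDivisors {A' : Type u} [CommRing A'] {a : A'} (ha : a ∈ nonZeroDivisors A')
    (σ : Type u) : (MvPolynomial.C a : MvPolynomial σ A') ∈ nonZeroDivisors (MvPolynomial σ A') := by
  rw [mem_nonZeroDivisors_iff_right]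
  intro p hp
  ext m
  have h1 := congrArg (MvPolynomial.coeff m) hp
  rw [mul_comm, MvPolynomial.coeff_C_mul, MvPolynomial.coeff_zero, mul_comm] at h1
  rw [MvPolynomial.coeff_zero]
  exact (mem_nonZeroDivisors_iff_right.mp ha) _ h1

theorem bmap_smul {S S' : Type u} [CommSemiring S] [Algebra A S] [CommSemiring S']
    [Algebra A S'] (φ : S →ₐ[A] S') (p : S) (z : S ⊗[A] B) :
    bmap φ B (p • z) = φ p • bmap φ B z := by
  induction z using TensorProduct.induction_on with
  | zero => simp
  | tmul s b => simp [TensorProduct.smul_tmul']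
  | add x y hx hy => simp only [smul_add, map_add, hx, hy]

theorem bmap_id {S : Type u} [CommSemiring S] [Algebra A S] (z : S ⊗[A] B) :
    bmap (AlgHom.id A S) B z = z := by
  simp [bmap]

/-- The inclusion `R → R[s]` as a map of `A`-algebras. -/
noncomputable abbrev polyC (A : Type u) [CommRing A] (R : Type u) [CommRing R] [Algebra A R] :
    R →ₐ[A] Polynomial R := (Polynomial.CAlgHom (R := R)).restrictScalars A

/-- The substitution `s ↦ q`, `R[s] → R[s]`, as a map of `A`-algebras. -/
noncomputable abbrev polySubst (A : Type u) [CommRing A] {R : Type u} [CommRing R] [Algebra A R]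
    (q : Polynomial R) : Polynomial R →ₐ[A] Polynomial R :=
  (Polynomial.aeval (R := R) q).restrictScalars A

/-- The evaluation `s ↦ r`, `R[s] → R`, as a map of `A`-algebras. -/
noncomputable abbrev polyEval (A : Type u) [CommRing A] {R : Type u} [CommRing R] [Algebra A R]
    (r : R) : Polynomial R →ₐ[A] R :=
  (Polynomial.aeval (R := R) r).restrictScalars A

theorem polySubst_apply {R : Type u} [CommRing R] [Algebra A R] (q p : Polynomial R) :
    polySubst A q p = p.comp q := rfl

theorem polySubst_comp_polyC {R : Type u} [CommRing R] [Algebra A R] (q : Polynomial R) :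
    (polySubst A q).comp (polyC A R) = polyC A R :=
  AlgHom.ext fun r => by simp [polySubst, polyC]

theorem polyEval_comp_polyC {R : Type u} [CommRing R] [Algebra A R] (r : R) :
    (polyEval A r).comp (polyC A R) = AlgHom.id A R :=
  AlgHom.ext fun r => by simp [polyEval, polyC]

theorem core (F : B →ₚₗ[A] A) (R : Type u) [CommRing R] [Algebra A R] {c : R}
    (hc : c ∈ nonZeroDivisors R) (x v : R ⊗[A] B)
    (h : F.toFun' (Polynomial R) (bmap (polyC A R) B x +
        (Polynomial.C c * Polynomial.X) • bmap (polyC A R) B v) =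
      F.toFun' (Polynomial R) (bmap (polyC A R) B x)) :
    F.toFun' R (x + v) = F.toFun' R x := by
  rw [← val_inj] at h ⊢
  set arg : Polynomial R ⊗[A] B := bmap (polyC A R) B x +
    (Polynomial.X : Polynomial R) • bmap (polyC A R) B v with harg
  have h1 : bmap (polySubst A (Polynomial.C c * Polynomial.X)) B arg =
      bmap (polyC A R) B x + (Polynomial.C c * Polynomial.X) • bmap (polyC A R) B v := by
    rw [harg, map_add, bmap_smul, bmap_bmap, bmap_bmap, polySubst_comp_polyC]
    simp [polySubst]
  rw [← h1, val_bmap, val_bmap, polySubst_apply] at h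
  have h2 : val F _ arg = Polynomial.C (val F R x) := by
    refine Polynomial.ext fun n => ?_
    have h7 := congrArg (fun p => p.coeff n) h
    simp only [Polynomial.comp_C_mul_X_coeff] at h7
    rcases Nat.eq_zero_or_pos n with hn | hn
    · subst hn
      simpa using h7
    · have h9 : (polyC A R (val F R x)).coeff n = 0 := by
        rw [show polyC A R (val F R x) = Polynomial.C (val F R x) from rfl,
          Polynomial.coeff_C_of_ne_zero (by omega)]
      rw [h9] at h7
      rw [Polynomial.coeff_C_of_ne_zero (by omega)]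
      exact (mem_nonZeroDivisors_iff_right.mp (pow_mem hc n)) _ h7
  have h3 : bmap (polyEval A (1 : R)) B arg = x + v := by
    rw [harg, map_add, bmap_smul, bmap_bmap, bmap_bmap, polyEval_comp_polyC, bmap_id, bmap_id]
    simp [polyEval]
  rw [← h3, val_bmap, h2]
  simp [polyEval]

/-- **Saturation.** If `a` is a non-zero-divisor of `A'` and `a b' ∈ kerBC F A'`, then
`b' ∈ kerBC F A'`. -/
theorem mem_kerBC_of_smul_mem (F : B →ₚₗ[A] A) (A' : Type u) [CommRing A'] [Algebra A A']
    {a : A'} (ha : a ∈ nonZeroDivisors A') {b' : A' ⊗[A] B}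
    (h : a • b' ∈ PolLaw.kerBC F A') : b' ∈ PolLaw.kerBC F A' := by
  rw [mem_kerBC_iff_mv]
  intro σ x w
  refine core F (MvPolynomial σ A') (C_mem_nonZeroDivisors ha σ) x _ ?_
  have h1 := h (Polynomial (MvPolynomial σ A')) (bmap (polyC A _) B x)
    ((Polynomial.X : Polynomial (MvPolynomial σ A')) • bmap (polyC A _) B w)
  rw [← h1]
  congr 2
  have h2 : (IsScalarTower.toAlgHom A A' (Polynomial (MvPolynomial σ A'))) =
      (polyC A (MvPolynomial σ A')).comp (IsScalarTower.toAlgHom A A' (MvPolynomial σ A')) := rfl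
  rw [h2, map_mul, ← bmap_bmap, bmap_smul, bmap_smul, smul_mul_assoc, mul_smul_comm, smul_smul,
    mul_comm (Polynomial.C _)]
  rfl

/-- Decomposition of the elements of `A'[T] ⊗ B`. -/
theorem exists_sum_polynomial (A' : Type u) [CommRing A'] [Algebra A A']
    (z : Polynomial A' ⊗[A] B) : ∃ (n : ℕ) (c : ℕ → A' ⊗[A] B),
      z = ∑ k ∈ Finset.range n, (Polynomial.X : Polynomial A') ^ k •
        bmap ((Polynomial.CAlgHom (R := A')).restrictScalars A) B (c k) := by
  induction z using TensorProduct.induction_on with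
  | zero => exact ⟨0, fun _ => 0, by simp⟩
  | tmul p b =>
    refine ⟨p.natDegree + 1, fun k => p.coeff k ⊗ₜ[A] b, ?_⟩
    conv_lhs => rw [p.as_sum_range_C_mul_X_pow, TensorProduct.sum_tmul]
    refine Finset.sum_congr rfl fun k _ => ?_
    rw [Algebra.TensorProduct.map_tmul, TensorProduct.smul_tmul', smul_eq_mul, mul_comm]
    rfl
  | add x y hx hy =>
    obtain ⟨n, c, rfl⟩ := hx
    obtain ⟨m, d, rfl⟩ := hy
    refine ⟨max n m, fun k => (if k < n then c k else 0) + (if k < m then d k else 0), ?_⟩
    simp only [map_add, smul_add, Finset.sum_add_distrib]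
    congr 1
    · rw [← Finset.sum_subset (Finset.range_subset_range.mpr (le_max_left n m))]
      · refine Finset.sum_congr rfl fun k hk => ?_
        rw [if_pos (Finset.mem_range.mp hk)]
      · intro k _ hk
        rw [if_neg (by simpa using hk)]
        simp
    · rw [← Finset.sum_subset (Finset.range_subset_range.mpr (le_max_right n m))]
      · refine Finset.sum_congr rfl fun k hk => ?_
        rw [if_pos (Finset.mem_range.mp hk)]
      · intro k _ hk
        rw [if_neg (by simpa using hk)]
        simp

theorem coeff_mem_kerBC (F : B →ₚₗ[A] A) (A' : Type u) [CommRing A'] [Algebra A A'] (n : ℕ) :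
    ∀ (c : ℕ → A' ⊗[A] B), (∑ k ∈ Finset.range n, (Polynomial.X : Polynomial A') ^ k •
        bmap ((Polynomial.CAlgHom (R := A')).restrictScalars A) B (c k)) ∈
          PolLaw.kerBC F (Polynomial A') → ∀ k < n, c k ∈ PolLaw.kerBC F A' := by
  induction n with
  | zero => intro c _ k hk; omega
  | succ n ih =>
    intro c hc
    set ι : A' →ₐ[A] Polynomial A' := (Polynomial.CAlgHom (R := A')).restrictScalars A with hι
    let ε : Polynomial A' →ₐ[A] A' := (Polynomial.aeval (R := A') (0 : A')).restrictScalars A
    have hει : ε.comp ι = AlgHom.id A A' := by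
      ext r
      simp [ε, ι]
    have h0 : c 0 ∈ PolLaw.kerBC F A' := by
      have h1 := bmap_mem_kerBC F ε hc
      rw [map_sum, Finset.sum_range_succ'] at h1
      simp only [bmap_smul, bmap_bmap, hει] at h1
      have h2 : ∀ k, ε (Polynomial.X ^ (k + 1)) = 0 := fun k => by simp [ε]
      simp only [h2, zero_smul, Finset.sum_const_zero, zero_add, pow_zero, map_one, one_smul] at h1
      simpa [bmap] using h1
    have h3 : (Polynomial.X : Polynomial A') • (∑ k ∈ Finset.range n,
        (Polynomial.X : Polynomial A') ^ k • bmap ι B (c (k + 1))) ∈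
          PolLaw.kerBC F (Polynomial A') := by
      have h4 := (PolLaw.kerBC F (Polynomial A')).sub_mem hc (bmap_mem_kerBC F ι h0)
      rw [Finset.sum_range_succ'] at h4
      simp only [pow_zero, one_smul, add_sub_cancel_right] at h4
      rw [Finset.smul_sum]
      simpa only [smul_smul, ← pow_succ'] using h4
    have hX : (Polynomial.X : Polynomial A') ∈ nonZeroDivisors (Polynomial A') := by
      rw [mem_nonZeroDivisors_iff_right]
      intro p hp
      ext m
      have := congrArg (fun q => q.coeff (m + 1)) hp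
      simpa [Polynomial.coeff_mul_X] using this
    have h5 := ih (fun k => c (k + 1)) (mem_kerBC_of_smul_mem F (Polynomial A') hX h3)
    intro k hk
    rcases k with _ | k
    · exact h0
    · exact h5 k (by omega)

/-- The property "the kernel commutes with base change to `A'`". -/
def Good (F : B →ₚₗ[A] A) (A' : Type u) [CommRing A'] [Algebra A A'] : Prop :=
  PolLaw.kerBC F A' ≤ (PolLaw.ker F).map (Algebra.TensorProduct.includeRight : B →ₐ[A] A' ⊗[A] B)

theorem Good.eq {F : B →ₚₗ[A] A} {A' : Type u} [CommRing A'] [Algebra A A'] (h : Good F A') :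
    (PolLaw.ker F).map (Algebra.TensorProduct.includeRight : B →ₐ[A] A' ⊗[A] B) =
      PolLaw.kerBC F A' := le_antisymm (map_ker_le_kerBC F A') h

theorem good_self (F : B →ₚₗ[A] A) : Good F A := by
  intro z hz
  have h1 : z = (1 : A) ⊗ₜ[A] (TensorProduct.lid A B z) := by
    apply (TensorProduct.lid A B).injective
    simp
  rw [h1] at hz ⊢
  rw [mem_ker_iff_mem_kerBC_self] at hz
  exact Ideal.mem_map_of_mem (Algebra.TensorProduct.includeRight : B →ₐ[A] A ⊗[A] B) hz

theorem bmap_mem_map_ker (F : B →ₚₗ[A] A) {A' A'' : Type u} [CommRing A'] [Algebra A A']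
    [CommRing A''] [Algebra A A''] (φ : A' →ₐ[A] A'') {z : A' ⊗[A] B}
    (hz : z ∈ (PolLaw.ker F).map (Algebra.TensorProduct.includeRight : B →ₐ[A] A' ⊗[A] B)) :
    bmap φ B z ∈
      (PolLaw.ker F).map (Algebra.TensorProduct.includeRight : B →ₐ[A] A'' ⊗[A] B) := by
  have h1 : (PolLaw.ker F).map (Algebra.TensorProduct.includeRight : B →ₐ[A] A' ⊗[A] B) ≤
      Ideal.comap (bmap φ B)
        ((PolLaw.ker F).map (Algebra.TensorProduct.includeRight : B →ₐ[A] A'' ⊗[A] B)) := by
    rw [Ideal.map_le_iff_le_comap]
    intro b hb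
    rw [Ideal.mem_comap, Ideal.mem_comap]
    have h2 : bmap φ B (Algebra.TensorProduct.includeRight b) =
        (Algebra.TensorProduct.includeRight : B →ₐ[A] A'' ⊗[A] B) b := by
      simp
    rw [h2]
    exact Ideal.mem_map_of_mem _ hb
  exact h1 hz

theorem Good.polynomial {F : B →ₚₗ[A] A} {A' : Type u} [CommRing A'] [Algebra A A']
    (h : Good F A') : Good F (Polynomial A') := by
  intro z hz
  obtain ⟨n, c, rfl⟩ := exists_sum_polynomial A' z
  refine sum_mem fun k hk => ?_
  have hk' := coeff_mem_kerBC F A' n c hz k (Finset.mem_range.mp hk)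
  rw [Algebra.smul_def]
  exact Ideal.mul_mem_left _ _ (bmap_mem_map_ker F _ (h hk'))

theorem Good.of_equiv {F : B →ₚₗ[A] A} {A' A'' : Type u} [CommRing A'] [Algebra A A']
    [CommRing A''] [Algebra A A''] (h : Good F A') (e : A' ≃ₐ[A] A'') : Good F A'' := by
  intro z hz
  have h1 := h (bmap_mem_kerBC F e.symm.toAlgHom hz)
  have h2 := bmap_mem_map_ker F e.toAlgHom h1
  rw [bmap_bmap] at h2
  have h3 : e.toAlgHom.comp e.symm.toAlgHom = AlgHom.id A A'' := by
    ext; simp
  rw [h3] at h2
  simpa [bmap] using h2

theorem good_mvPolynomial_fin (F : B →ₚₗ[A] A) (n : ℕ) : Good F (MvPolynomial (Fin n) A) := by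
  induction n with
  | zero => exact (good_self F).of_equiv (MvPolynomial.isEmptyAlgEquiv A (Fin 0)).symm
  | succ n ih => exact ih.polynomial.of_equiv (MvPolynomial.finSuccEquiv A n).symm

end K756.Sat
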