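import Groth.Agent.ZeroCyc.K756.Sat
import Groth.Agent.FlatA.FiniteFreeSplit
import Mathlib.LinearAlgebra.Vandermonde
import Mathlib.FieldTheory.Separable
import Mathlib.Algebra.CharP.Quotient
import Mathlib.LinearAlgebra.Determinant

/-!
Splitting a separable monic polynomial; kernels of base changes to monogenic etale algebras.
-/

set_option autoImplicit false

universe u

open scoped TensorProduct

namespace K756.EtMono

open K756.KerBC K756.Sat Polynomial

/-- A separable monic polynomial splits, with unit differences of roots, over a finite free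
faithfully flat extension. -/
theorem exists_roots {A : Type u} [CommRing A] (g : A[X]) (hg : g.Monic) (hsep : g.Separable) :
    ∃ (S : Type u) (_ : CommRing S) (_ : Algebra A S), Module.Finite A S ∧
      Module.FaithfullyFlat A S ∧ ∃ r : Fin g.natDegree → S,
        g.map (algebraMap A S) = ∏ i, (X - C (r i)) ∧ ∀ i j, i ≠ j → IsUnit (r i - r j) := by
  obtain ⟨S, _, _, hfin, -, hff, s, hs⟩ :=
    Groth.Agent.FlatA.FiniteFreeSplit.exists_finite_free_splits g hg
  refine ⟨S, inferInstance, inferInstance, hfin, hff, ?_⟩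
  rcases subsingleton_or_nontrivial S with hS | hS
  · exact ⟨fun _ => 0, Subsingleton.elim _ _, fun i j _ => by
      rw [Subsingleton.elim ((0 : S) - 0) 1]; exact isUnit_one⟩
  obtain ⟨l, rfl⟩ := Quot.exists_rep s
  have hs' : g.map (algebraMap A S) = (l.map (fun a => X - C a)).prod := by
    rw [hs]
    exact Multiset.prod_coe _
  have hlen : l.length = g.natDegree := by
    rw [← hg.natDegree_map (algebraMap A S), hs, Polynomial.natDegree_multiset_prod_X_sub_C_eq_card]
    rfl
  have key : ∀ (n : ℕ) (hn : l.length = n), ∃ r : Fin n → S,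
      g.map (algebraMap A S) = ∏ i, (X - C (r i)) := by
    rintro n rfl
    refine ⟨fun i => l[i.1], ?_⟩
    rw [hs', ← Fin.prod_univ_fun_getElem]
  obtain ⟨r, hr⟩ := key _ hlen
  refine ⟨r, hr, fun i j hij => ?_⟩
  have hsep' : (g.map (algebraMap A S)).Separable := hsep.map
  obtain ⟨a, b, hab⟩ := hsep'
  classical
  obtain ⟨H, hH⟩ : ∃ H : S[X], g.map (algebraMap A S) = (X - C (r i)) * ((X - C (r j)) * H) := by
    rw [hr, ← Finset.mul_prod_erase Finset.univ _ (Finset.mem_univ i),
      ← Finset.mul_prod_erase (Finset.univ.erase i) _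
        (Finset.mem_erase.mpr ⟨hij.symm, Finset.mem_univ j⟩)]
    exact ⟨_, rfl⟩
  have h1 := congrArg (Polynomial.eval (r i)) hab
  rw [hH] at h1
  simp only [Polynomial.eval_add, Polynomial.eval_mul, Polynomial.eval_sub, Polynomial.eval_X,
    Polynomial.eval_C, sub_self, zero_mul, mul_zero, zero_add, Polynomial.derivative_mul,
    Polynomial.derivative_sub, Polynomial.derivative_X, Polynomial.derivative_C, sub_zero,
    Polynomial.eval_one, one_mul, add_zero] at h1
  refine IsUnit.of_mul_eq_one (Polynomial.eval (r i) b * Polynomial.eval (r i) H) ?_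
  rw [← h1]
  ring

/-- The Vandermonde determinant of the roots is a unit. -/
theorem isUnit_det_vandermonde {S : Type u} [CommRing S] {n : ℕ} (r : Fin n → S)
    (h : ∀ i j, i ≠ j → IsUnit (r i - r j)) : IsUnit (Matrix.vandermonde r).det := by
  rw [Matrix.det_vandermonde]
  have : ∀ (ι : Type) (t : Finset ι) (f : ι → S), (∀ i ∈ t, IsUnit (f i)) →
      IsUnit (∏ i ∈ t, f i) := by
    intro ι t f hf
    classical
    induction t using Finset.induction_on with
    | empty => simp
    | insert a t ha ih =>
      rw [Finset.prod_insert ha]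
      exact (hf a (Finset.mem_insert_self _ _)).mul
        (ih fun i hi => hf i (Finset.mem_insert_of_mem hi))
  refine this _ _ _ fun i _ => this _ _ _ fun j hj => ?_
  exact h j i (Finset.mem_Ioi.mp hj).ne'

variable {A : Type u} [CommRing A] {B : Type u} [CommRing B] [Algebra A B]

/-- **Kernels commute with monogenic etale base change.** -/
theorem good_adjoinRoot (F : B →ₚₗ[A] A) (g : A[X]) (hg : g.Monic) (hsep : g.Separable) :
    Good F (AdjoinRoot g) := by
  intro b' hb'
  obtain ⟨S, _, _, -, hff, r, hr, hu⟩ := exists_roots g hg hsep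
  -- expand `b'` in the power basis
  let bs := AdjoinRoot.powerBasisAux' hg
  have hbs : ∀ j, bs j = AdjoinRoot.root g ^ (j : ℕ) := fun j =>
    (AdjoinRoot.powerBasis' hg).basis_eq_pow j
  obtain ⟨c, hc⟩ : ∃ c : Fin g.natDegree → B,
      b' = ∑ j : Fin g.natDegree, (AdjoinRoot.root g ^ (j : ℕ)) ⊗ₜ[A] c j := by
    clear hb'
    induction b' using TensorProduct.induction_on with
    | zero => exact ⟨0, by simp⟩
    | tmul a b =>
      refine ⟨fun j => bs.repr a j • b, ?_⟩
      conv_lhs => rw [← bs.sum_repr a, TensorProduct.sum_tmul]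
      exact Finset.sum_congr rfl fun j _ => by rw [hbs, TensorProduct.tmul_smul,
        TensorProduct.smul_tmul']
    | add x y hx hy =>
      obtain ⟨c, rfl⟩ := hx
      obtain ⟨d, rfl⟩ := hy
      exact ⟨c + d, by simp only [Pi.add_apply, TensorProduct.tmul_add, Finset.sum_add_distrib]⟩
  -- the conjugates
  have hroot : ∀ i, g.eval₂ (Algebra.ofId A S) (r i) = 0 := by
    intro i
    have h1 : g.eval₂ (algebraMap A S) (r i) = 0 := by
      rw [← Polynomial.eval_map, hr, Polynomial.eval_prod]
      exact Finset.prod_eq_zero (Finset.mem_univ i) (by simp)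
    exact h1
  let σ : Fin g.natDegree → (AdjoinRoot g →ₐ[A] S) := fun i =>
    AdjoinRoot.liftAlgHom g (Algebra.ofId A S) (r i) (hroot i)
  have hσ : ∀ i, bmap (σ i) B b' = ∑ j : Fin g.natDegree, (r i ^ (j : ℕ)) ⊗ₜ[A] c j := by
    intro i
    rw [hc, map_sum]
    refine Finset.sum_congr rfl fun j _ => ?_
    rw [Algebra.TensorProduct.map_tmul, map_pow, AdjoinRoot.liftAlgHom_root, AlgHom.id_apply]
  have hV := isUnit_det_vandermonde r hu
  have hVV : (Matrix.vandermonde r)⁻¹ * Matrix.vandermonde r = 1 :=
    Matrix.nonsing_inv_mul _ hV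
  have hcj : ∀ k, c k ∈ PolLaw.ker F := by
    intro k
    refine mem_ker_of_one_tmul_mem F S
      (fun N _ _ => Module.FaithfullyFlat.tensorProduct_mk_injective N) ?_
    have h1 : (1 : S) ⊗ₜ[A] c k =
        ∑ i, ((Matrix.vandermonde r)⁻¹ k i) • bmap (σ i) B b' := by
      simp only [hσ, Finset.smul_sum, TensorProduct.smul_tmul', smul_eq_mul]
      rw [Finset.sum_comm]
      have h2 : ∀ j : Fin g.natDegree, ∑ i, ((Matrix.vandermonde r)⁻¹ k i * r i ^ (j : ℕ)) ⊗ₜ[A] c j =
          (if k = j then (1 : S) else 0) ⊗ₜ[A] c j := by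
        intro j
        rw [← TensorProduct.sum_tmul]
        congr 1
        have h3 := congrFun (congrFun hVV k) j
        rw [Matrix.mul_apply, Matrix.one_apply] at h3
        exact h3
      rw [Finset.sum_congr rfl fun j _ => h2 j, Finset.sum_eq_single k]
      · rw [if_pos rfl]
      · intro j _ hj
        rw [if_neg hj.symm, TensorProduct.zero_tmul]
      · intro h
        exact absurd (Finset.mem_univ k) h
    rw [h1]
    refine sum_mem fun i _ => ?_
    rw [Algebra.smul_def]
    exact Ideal.mul_mem_left _ _ (bmap_mem_kerBC F (σ i) hb')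
  rw [hc]
  refine sum_mem fun j _ => ?_
  have h2 : (AdjoinRoot.root g ^ (j : ℕ)) ⊗ₜ[A] c j =
      ((AdjoinRoot.root g ^ (j : ℕ)) ⊗ₜ[A] (1 : B)) *
        (Algebra.TensorProduct.includeRight : B →ₐ[A] AdjoinRoot g ⊗[A] B) (c j) := by
    simp
  rw [h2]
  exact Ideal.mul_mem_left _ _ (Ideal.mem_map_of_mem
    (Algebra.TensorProduct.includeRight : B →ₐ[A] AdjoinRoot g ⊗[A] B) (hcj j))

/-- The powers `1, t^q, …, t^{(n-1)q}`, `q = p ^ s`, form a basis. -/
theorem exists_basis_pow {A : Type u} [CommRing A] [IsLocalRing A] (p : ℕ) [Fact p.Prime]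
    [CharP (IsLocalRing.ResidueField A) p] (g : Polynomial A) (hg : g.Monic)
    (hsep : g.Separable) (s : ℕ) :
    ∃ b : Module.Basis (Fin g.natDegree) A (AdjoinRoot g),
      ∀ i : Fin g.natDegree, b i = AdjoinRoot.root g ^ (p ^ s * (i : ℕ)) := by
  obtain ⟨S, _, _, hfin, hff, r, hr, hu⟩ := exists_roots g hg hsep
  have hS : Nontrivial S := by
    have := Module.FaithfullyFlat.tensorProduct_mk_injective (A := A) (B := S) A
    by_contra h
    rw [not_nontrivial_iff_subsingleton] at h
    have h2 : (1 : A) = 0 := this (by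
      rw [TensorProduct.mk_apply, TensorProduct.mk_apply, Subsingleton.elim (1 : S) 0,
        TensorProduct.zero_tmul, TensorProduct.zero_tmul])
    exact one_ne_zero h2
  let bs := AdjoinRoot.powerBasisAux' hg
  have hbs : ∀ j, bs j = AdjoinRoot.root g ^ (j : ℕ) := fun j =>
    (AdjoinRoot.powerBasis' hg).basis_eq_pow j
  have hroot : ∀ i, g.eval₂ (Algebra.ofId A S) (r i) = 0 := by
    intro i
    have h1 : g.eval₂ (algebraMap A S) (r i) = 0 := by
      rw [← Polynomial.eval_map, hr, Polynomial.eval_prod]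
      exact Finset.prod_eq_zero (Finset.mem_univ i) (by simp)
    exact h1
  let σ : Fin g.natDegree → (AdjoinRoot g →ₐ[A] S) := fun i =>
    AdjoinRoot.liftAlgHom g (Algebra.ofId A S) (r i) (hroot i)
  have hσ : ∀ i, σ i (AdjoinRoot.root g) = r i := fun i =>
    AdjoinRoot.liftAlgHom_root g _ (r i) (hroot i)
  let v : Fin g.natDegree → AdjoinRoot g := fun i => AdjoinRoot.root g ^ (p ^ s * (i : ℕ))
  -- the maximal ideal lies in the Jacobson radical of `S`
  have hpm : (p : A) ∈ IsLocalRing.maximalIdeal A := by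
    rw [← IsLocalRing.residue_eq_zero_iff, map_natCast]
    exact CharP.cast_eq_zero _ p
  have hjac : ∀ a ∈ IsLocalRing.maximalIdeal A, ∀ z : S, algebraMap A S a * z ∈
      (⊥ : Ideal S).jacobson := by
    intro a ha z
    refine Ideal.mul_mem_right _ _ ?_
    rw [Ideal.mem_jacobson_bot]
    intro y
    by_contra hy
    obtain ⟨P, hP, hyP⟩ := exists_max_ideal_of_mem_nonunits hy
    have hPm : (P.comap (algebraMap A S)).IsMaximal :=
      Ideal.isMaximal_comap_of_isIntegral_of_isMaximal P
    have h2 : algebraMap A S a ∈ P := by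
      have : a ∈ P.comap (algebraMap A S) := by
        rw [IsLocalRing.eq_maximalIdeal hPm]; exact ha
      exact this
    have h3 : (1 : S) ∈ P := by
      have := P.sub_mem hyP (P.mul_mem_right y h2)
      simpa using this
    exact hP.ne_top ((Ideal.eq_top_iff_one P).mpr h3)
  have hunit : ∀ x y : S, IsUnit x → (x - y ∈ (⊥ : Ideal S).jacobson) → IsUnit y := by
    intro x y hx hxy
    obtain ⟨x, rfl⟩ := hx
    rw [Ideal.mem_jacobson_bot] at hxy
    have h1 := hxy (-(↑x⁻¹ : S))
    have h2 : ((x : S) - y) * -(↑x⁻¹ : S) + 1 = y * (↑x⁻¹ : S) := by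
      have := x.mul_inv
      linear_combination (-1 : S) * this
    rw [h2] at h1
    have h3 := h1.mul x.isUnit
    rwa [mul_assoc, Units.inv_mul, mul_one] at h3
  -- the matrix of the new family
  have hW : IsUnit (Matrix.vandermonde fun i => r i ^ (p ^ s)).det := by
    refine isUnit_det_vandermonde _ fun i j hij => ?_
    refine hunit ((r i - r j) ^ (p ^ s)) _ ((hu i j hij).pow _) ?_
    have h4 : ∃ z : S, (r i - r j) ^ (p ^ s) - (r i ^ (p ^ s) - r j ^ (p ^ s)) =
        algebraMap A S p * z := by
      have h5 : (Ideal.Quotient.mk (Ideal.span {(p : S)}))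
          ((r i - r j) ^ (p ^ s) - (r i ^ (p ^ s) - r j ^ (p ^ s))) = 0 := by
        have hc : CharP (S ⧸ Ideal.span {(p : S)}) p := by
          refine CharP.quotient S p ?_
          intro hpu
          have h6 : (p : S) ∈ (⊥ : Ideal S).jacobson := by
            have := hjac p hpm 1
            rwa [map_natCast, mul_one] at this
          rw [Ideal.mem_jacobson_bot] at h6
          obtain ⟨q, hq⟩ := hpu
          have h7 := h6 (-(↑q⁻¹ : S))
          rw [← hq, mul_neg, Units.mul_inv, neg_add_cancel] at h7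
          exact not_isUnit_zero h7
        rw [map_sub, map_sub, map_pow, map_sub, map_pow, map_pow, sub_pow_char_pow, sub_self]
      rw [Ideal.Quotient.eq_zero_iff_mem, Ideal.mem_span_singleton] at h5
      obtain ⟨z, hz⟩ := h5
      exact ⟨z, by rw [hz, map_natCast]⟩
    obtain ⟨z, hz⟩ := h4
    rw [hz]
    exact hjac p hpm z
  have hVdet := isUnit_det_vandermonde r hu
  -- compare
  have hM : (Matrix.vandermonde fun i => r i ^ (p ^ s)) =
      Matrix.vandermonde r * (bs.toMatrix v).map (algebraMap A S) := by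
    ext i j
    rw [Matrix.mul_apply, Matrix.vandermonde_apply]
    have h8 : v j = ∑ k, bs.toMatrix v k j • bs k := (bs.sum_toMatrix_smul_self v j).symm
    have h9 := congrArg (σ i) h8
    simp only [v, map_pow, hσ, map_sum, map_smul, hbs] at h9
    rw [← pow_mul, h9]
    refine Finset.sum_congr rfl fun k _ => ?_
    rw [Matrix.vandermonde_apply, Matrix.map_apply, Algebra.smul_def, mul_comm]
  have hdet : IsUnit (algebraMap A S (bs.det v)) := by
    have h10 := congrArg Matrix.det hM
    rw [Matrix.det_mul, ← RingHom.mapMatrix_apply, ← RingHom.map_det] at h10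
    rw [h10] at hW
    rw [Module.Basis.det_apply]
    exact isUnit_of_mul_isUnit_right hW
  have hdet' : IsUnit (bs.det v) := by
    by_contra h
    have h11 := hjac _ ((IsLocalRing.mem_maximalIdeal _).mpr h) 1
    rw [mul_one, Ideal.mem_jacobson_bot] at h11
    obtain ⟨q, hq⟩ := hdet
    have h7 := h11 (-(↑q⁻¹ : S))
    rw [← hq, mul_neg, Units.mul_inv, neg_add_cancel] at h7
    exact not_isUnit_zero h7
  obtain ⟨hli, hsp⟩ := (Module.Basis.is_basis_iff_det bs).mpr hdet'
  exact ⟨Module.Basis.mk hli hsp.ge, fun i => by rw [Module.Basis.mk_apply]⟩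

end K756.EtMono
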