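import Groth.Agent.ZeroCyc.K756.FinGen
import Mathlib.Algebra.Polynomial.Taylor
import Mathlib.Algebra.Polynomial.Inductions
import Mathlib.RingTheory.Flat.Equalizer
import Mathlib.RingTheory.TensorProduct.MvPolynomial

/-!
The linear term of a polynomial law, and kernels of flat base changes in characteristic zero.
-/

set_option autoImplicit false

universe u

open scoped TensorProduct

namespace K756.Lin

open K756.KerBC K756.Sat K756.FinGen

variable {A : Type u} [CommRing A] {B : Type u} [CommRing B] [Algebra A B]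

/-- The linear term of `F (x + s u)`. -/
noncomputable def D (F : B →ₚₗ[A] A) (R : Type u) [CommRing R] [Algebra A R]
    (x u : R ⊗[A] B) : R :=
  (val F (Polynomial R) (bmap (polyC A R) B x +
    (Polynomial.X : Polynomial R) • bmap (polyC A R) B u)).coeff 1

theorem mapAlgHom_comp_polyC {R R' : Type u} [CommRing R] [Algebra A R] [CommRing R']
    [Algebra A R'] (φ : R →ₐ[A] R') :
    (Polynomial.mapAlgHom φ).comp (polyC A R) = (polyC A R').comp φ :=
  AlgHom.ext fun _ => Polynomial.map_C _

theorem D_bmap (F : B →ₚₗ[A] A) {R R' : Type u} [CommRing R] [Algebra A R] [CommRing R']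
    [Algebra A R'] (φ : R →ₐ[A] R') (x u : R ⊗[A] B) :
    D F R' (bmap φ B x) (bmap φ B u) = φ (D F R x u) := by
  have h2 : Polynomial.mapAlgHom φ (Polynomial.X : Polynomial R) = Polynomial.X :=
    Polynomial.map_X _
  have h1 : bmap (polyC A R') B (bmap φ B x) +
      (Polynomial.X : Polynomial R') • bmap (polyC A R') B (bmap φ B u) =
      bmap (Polynomial.mapAlgHom φ) B (bmap (polyC A R) B x +
        (Polynomial.X : Polynomial R) • bmap (polyC A R) B u) := by
    rw [map_add, bmap_smul, bmap_bmap, bmap_bmap, bmap_bmap, bmap_bmap, mapAlgHom_comp_polyC, h2]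
  unfold D
  rw [h1, val_bmap]
  exact Polynomial.coeff_map _ _

theorem D_smul (F : B →ₚₗ[A] A) (R : Type u) [CommRing R] [Algebra A R] (r : R)
    (x u : R ⊗[A] B) : D F R x (r • u) = r * D F R x u := by
  have h1 : bmap (polySubst A (Polynomial.C r * Polynomial.X)) B (bmap (polyC A R) B x +
        (Polynomial.X : Polynomial R) • bmap (polyC A R) B u) =
      bmap (polyC A R) B x + (Polynomial.X : Polynomial R) • bmap (polyC A R) B (r • u) := by
    have h2 : polyC A R r = Polynomial.C r := rfl
    rw [map_add, bmap_smul, bmap_bmap, bmap_bmap, polySubst_comp_polyC, bmap_smul, smul_smul, h2,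
      mul_comm (Polynomial.X : Polynomial R)]
    simp [polySubst]
  unfold D
  rw [← h1, val_bmap, polySubst_apply, Polynomial.comp_C_mul_X_coeff, pow_one, mul_comm]

theorem coeff_one_eval_X {R : Type u} [CommRing R] (P : Polynomial (Polynomial R)) :
    (P.eval Polynomial.X).coeff 1 = (P.coeff 0).coeff 1 + (P.coeff 1).coeff 0 := by
  have h0 : ∀ Q : Polynomial (Polynomial R), (Q.eval Polynomial.X).coeff 0 =
      (Q.coeff 0).coeff 0 := by
    intro Q
    conv_lhs => rw [← Q.divX_mul_X_add]
    simp
  conv_lhs => rw [← P.divX_mul_X_add]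
  rw [Polynomial.eval_add, Polynomial.eval_mul, Polynomial.eval_X, Polynomial.eval_C,
    Polynomial.coeff_add, Polynomial.coeff_mul_X, h0, Polynomial.coeff_divX, add_comm]

theorem D_add (F : B →ₚₗ[A] A) (R : Type u) [CommRing R] [Algebra A R]
    (x u v : R ⊗[A] B) : D F R x (u + v) = D F R x u + D F R x v := by
  let ιs : R →ₐ[A] Polynomial R := polyC A R
  let ιt : Polynomial R →ₐ[A] Polynomial (Polynomial R) := polyC A (Polynomial R)
  let s : Polynomial R := Polynomial.X
  let t : Polynomial (Polynomial R) := Polynomial.X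
  let z : Polynomial (Polynomial R) ⊗[A] B :=
    bmap ιt B (bmap ιs B x + s • bmap ιs B u) + t • bmap ιt B (bmap ιs B v)
  let P : Polynomial (Polynomial R) := val F _ z
  -- `t ↦ 0`
  have h1 : P.coeff 0 = val F _ (bmap ιs B x + s • bmap ιs B u) := by
    have e : bmap (polyEval A (0 : Polynomial R)) B z = bmap ιs B x + s • bmap ιs B u := by
      simp only [z, ιt, t]
      rw [map_add, bmap_smul, bmap_bmap, bmap_bmap, polyEval_comp_polyC, bmap_id, bmap_id]
      simp [polyEval]
    rw [← e, val_bmap, Polynomial.coeff_zero_eq_eval_zero]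
    rfl
  -- `s ↦ 0`
  have h2 : (P.coeff 1).coeff 0 = D F R x v := by
    let φ := Polynomial.mapAlgHom (R := A) (polyEval A (0 : R))
    have hφ : φ.comp ιt = ιs.comp (polyEval A (0 : R)) := AlgHom.ext fun r => Polynomial.map_C _
    have hφt : φ t = Polynomial.X := Polynomial.map_X _
    have hs : polyEval A (0 : R) s = 0 := by simp [polyEval, s]
    have e : bmap φ B z = bmap ιs B x + (Polynomial.X : Polynomial R) • bmap ιs B v := by
      simp only [z]
      have e0 : ∀ y : R ⊗[A] B, bmap (ιs.comp (polyEval A (0 : R))) B (bmap ιs B y) =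
          bmap ιs B y := by
        intro y
        rw [← bmap_bmap, bmap_bmap ιs]
        simp only [ιs]
        rw [polyEval_comp_polyC, bmap_id]
      have e1 : (ιs.comp (polyEval A (0 : R))) s = 0 := by
        rw [AlgHom.comp_apply, hs, map_zero]
      rw [map_add, bmap_smul, bmap_bmap, bmap_bmap, hφ, map_add, bmap_smul, e0, e0, e0, e1,
        zero_smul, add_zero, hφt]
    unfold D
    rw [← show _ = bmap (polyC A R) B x +
      (Polynomial.X : Polynomial R) • bmap (polyC A R) B v from e, val_bmap]
    rw [Polynomial.coeff_zero_eq_eval_zero]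
    exact (Polynomial.coeff_map (p := P) (polyEval A (0 : R) : Polynomial R →+* R) 1).symm
  -- `t ↦ s`
  have h3 : (P.eval Polynomial.X).coeff 1 = D F R x (u + v) := by
    have e : bmap (polyEval A (Polynomial.X : Polynomial R)) B z =
        bmap ιs B x + s • bmap ιs B (u + v) := by
      simp only [z, ιt, t]
      rw [map_add, bmap_smul, bmap_bmap, bmap_bmap, polyEval_comp_polyC, bmap_id, bmap_id,
        map_add (bmap ιs B), smul_add, add_assoc]
      simp [polyEval, s]
    unfold D
    rw [← show _ = bmap (polyC A R) B x +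
      (Polynomial.X : Polynomial R) • bmap (polyC A R) B (u + v) from e, val_bmap]
    rfl
  rw [← h3, coeff_one_eval_X, h1, h2]
  rfl

/-- The derivative of `t ↦ F (x + t u)`. -/
theorem D_eq_derivative (F : B →ₚₗ[A] A) (R : Type u) [CommRing R] [Algebra A R]
    (x u : R ⊗[A] B) :
    D F (Polynomial R) (bmap (polyC A R) B x +
      (Polynomial.X : Polynomial R) • bmap (polyC A R) B u) (bmap (polyC A R) B u) =
    Polynomial.derivative (val F (Polynomial R) (bmap (polyC A R) B x +
      (Polynomial.X : Polynomial R) • bmap (polyC A R) B u)) := by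
  let ι : R →ₐ[A] Polynomial R := polyC A R
  let ι' : Polynomial R →ₐ[A] Polynomial (Polynomial R) := polyC A (Polynomial R)
  let t : Polynomial R := Polynomial.X
  let s : Polynomial (Polynomial R) := Polynomial.X
  let Q := val F (Polynomial R) (bmap ι B x + t • bmap ι B u)
  let ψ : Polynomial R →ₐ[A] Polynomial (Polynomial R) :=
    (polySubst A (R := Polynomial R) (Polynomial.X + Polynomial.C Polynomial.X)).comp
      (Polynomial.mapAlgHom ι)
  have hψ : ψ.comp ι = ι'.comp ι := by
    apply AlgHom.ext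
    intro r
    simp only [ψ, ι, ι', AlgHom.comp_apply]
    rw [show Polynomial.mapAlgHom (polyC A R) (polyC A R r) = Polynomial.C (polyC A R r) from
      Polynomial.map_C _, polySubst_apply, Polynomial.C_comp]
    rfl
  have hψt : ψ t = s + ι' t := by
    simp only [ψ, ι, ι', AlgHom.comp_apply, t, s]
    rw [show Polynomial.mapAlgHom (polyC A R) (Polynomial.X : Polynomial R) = Polynomial.X from
      Polynomial.map_X _, polySubst_apply, Polynomial.X_comp]
    rfl
  have h1 : bmap ι' B (bmap ι B x + t • bmap ι B u) + s • bmap ι' B (bmap ι B u) =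
      bmap ψ B (bmap ι B x + t • bmap ι B u) := by
    rw [map_add, map_add, bmap_smul, bmap_smul, bmap_bmap, bmap_bmap, bmap_bmap, bmap_bmap,
      hψ, hψt, add_smul, add_assoc, add_comm (ι' t • _)]
  have h2 : D F (Polynomial R) (bmap ι B x + t • bmap ι B u) (bmap ι B u) =
      (ψ Q).coeff 1 := by
    unfold D
    rw [← val_bmap, ← h1]
  have h3 : ψ Q = Polynomial.taylor Polynomial.X (Q.map Polynomial.C) := by
    rw [Polynomial.taylor_apply]
    rfl
  refine h2.trans ?_
  rw [h3, Polynomial.taylor_coeff_one, Polynomial.derivative_map, Polynomial.eval_map]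
  exact Polynomial.eval₂_C_X

/-- In characteristic zero, if the linear terms vanish the function is constant. -/
theorem toFun'_add_eq_of_D [Algebra ℚ A] (F : B →ₚₗ[A] A) (R : Type u) [CommRing R] [Algebra A R]
    (x u : R ⊗[A] B)
    (h : D F (Polynomial R) (bmap (polyC A R) B x +
      (Polynomial.X : Polynomial R) • bmap (polyC A R) B u) (bmap (polyC A R) B u) = 0) :
    F.toFun' R (x + u) = F.toFun' R x := by
  rw [D_eq_derivative] at h
  rw [← one_smul R u]
  refine core' F R x u fun k hk => ?_
  obtain ⟨j, rfl⟩ : ∃ j, k = j + 1 := ⟨k - 1, by omega⟩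
  have h1 := congrArg (fun p => p.coeff j) h
  simp only [Polynomial.coeff_derivative, Polynomial.coeff_zero] at h1
  have h2 : IsUnit ((j : R) + 1) := by
    have h3 : IsUnit ((j : ℚ) + 1) := IsUnit.mk0 _ (by positivity)
    have h4 := (h3.map (algebraMap ℚ A)).map (algebraMap A R)
    simpa using h4
  rw [one_mul]
  exact (h2.mul_left_eq_zero).mp h1

section Flat

variable {n : ℕ} (e : Fin n → B)

/-- The linear term at the generic element, as a linear map on `A' ⊗ B`. -/
noncomputable def L (F : B →ₚₗ[A] A) (A' : Type u) [CommRing A'] [Algebra A A'] :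
    A' ⊗[A] B →ₗ[A'] MvPolynomial (Fin n ⊕ Fin n) A' where
  toFun b' := D F (MvPolynomial (Fin n ⊕ Fin n) A') (gen e A' Sum.inl)
    (gen e A' Sum.inr *
      bmap (IsScalarTower.toAlgHom A A' (MvPolynomial (Fin n ⊕ Fin n) A')) B b')
  map_add' b b' := by rw [map_add, mul_add, D_add]
  map_smul' a b' := by
    rw [bmap_smul, mul_smul_comm, D_smul, RingHom.id_apply, Algebra.smul_def]
    rfl

theorem L_bmap (F : B →ₚₗ[A] A) {A' A'' : Type u} [CommRing A'] [Algebra A A'] [CommRing A'']
    [Algebra A A''] (φ : A' →ₐ[A] A'') (b' : A' ⊗[A] B) :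
    L e F A'' (bmap φ B b') = MvPolynomial.mapAlgHom φ (L e F A' b') := by
  have h1 : ∀ ε : Fin n → Fin n ⊕ Fin n, gen e A'' ε =
      bmap (MvPolynomial.mapAlgHom (σ := Fin n ⊕ Fin n) φ) B (gen e A' ε) := by
    intro ε
    simp only [gen, map_sum, Algebra.TensorProduct.map_tmul, AlgHom.id_apply]
    refine Finset.sum_congr rfl fun i _ => ?_
    congr 1
    exact (MvPolynomial.map_X _ _).symm
  have h2 : bmap (IsScalarTower.toAlgHom A A'' (MvPolynomial (Fin n ⊕ Fin n) A'')) B
      (bmap φ B b') = bmap (MvPolynomial.mapAlgHom φ) B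
        (bmap (IsScalarTower.toAlgHom A A' (MvPolynomial (Fin n ⊕ Fin n) A')) B b') := by
    rw [bmap_bmap, bmap_bmap]
    congr 2
    apply AlgHom.ext
    intro a
    exact (MvPolynomial.map_C (φ : A' →+* A'') a).symm
  change D F (MvPolynomial (Fin n ⊕ Fin n) A'') (gen e A'' Sum.inl) (gen e A'' Sum.inr *
      bmap (IsScalarTower.toAlgHom A A'' (MvPolynomial (Fin n ⊕ Fin n) A'')) B (bmap φ B b')) =
    MvPolynomial.mapAlgHom φ (D F (MvPolynomial (Fin n ⊕ Fin n) A') (gen e A' Sum.inl)
      (gen e A' Sum.inr *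
        bmap (IsScalarTower.toAlgHom A A' (MvPolynomial (Fin n ⊕ Fin n) A')) B b'))
  rw [← D_bmap, h1, h1, h2, map_mul]

theorem L_tmul (F : B →ₚₗ[A] A) (A' : Type u) [CommRing A'] [Algebra A A'] (a' : A') (b : B) :
    L e F A' (a' ⊗ₜ[A] b) =
      a' • MvPolynomial.map (algebraMap A A') (L e F A (1 ⊗ₜ[A] b)) := by
  have h1 : a' ⊗ₜ[A] b = a' • bmap (Algebra.ofId A A') B ((1 : A) ⊗ₜ[A] b) := by
    simp [TensorProduct.smul_tmul']
  rw [h1, map_smul, L_bmap]
  rfl

theorem mem_kerBC_iff_L [Algebra ℚ A] (F : B →ₚₗ[A] A)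
    (he : Submodule.span A (Set.range e) = ⊤) (A' : Type u) [CommRing A'] [Algebra A A']
    (b' : A' ⊗[A] B) : b' ∈ PolLaw.kerBC F A' ↔ L e F A' b' = 0 := by
  constructor
  · intro h
    set R := MvPolynomial (Fin n ⊕ Fin n) A' with hR
    have h1 := h (Polynomial R) (bmap (polyC A R) B (gen e A' Sum.inl))
      ((Polynomial.X : Polynomial R) • bmap (polyC A R) B (gen e A' Sum.inr))
    have h2 : (IsScalarTower.toAlgHom A A' (Polynomial R)) =
      (polyC A R).comp (IsScalarTower.toAlgHom A A' R) := rfl
    rw [h2, ← val_inj, ← bmap_bmap, smul_mul_assoc, ← map_mul (bmap (polyC A R) B), val_bmap] at h1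
    change (val F (Polynomial R) (bmap (polyC A R) B (gen e A' Sum.inl) +
      (Polynomial.X : Polynomial R) • bmap (polyC A R) B (gen e A' Sum.inr *
        bmap (IsScalarTower.toAlgHom A A' R) B b'))).coeff 1 = 0
    rw [h1]
    exact Polynomial.coeff_C_of_ne_zero one_ne_zero
  · intro h R _ _ _ _ x w
    -- reduce to polynomial rings over `A'`
    refine (mem_kerBC_iff_mv F A' b').mpr ?_ R x w
    intro σ x w
    apply toFun'_add_eq_of_D
    obtain ⟨ψ, hψ1, hψ2⟩ := exists_specialization he A' (Polynomial (MvPolynomial σ A'))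
      (bmap (polyC A _) B x + (Polynomial.X : Polynomial (MvPolynomial σ A')) •
        bmap (polyC A _) B (w * bmap (IsScalarTower.toAlgHom A A' (MvPolynomial σ A')) B b'))
      (bmap (polyC A _) B w)
    have h3 : bmap (polyC A (MvPolynomial σ A')) B
        (w * bmap (IsScalarTower.toAlgHom A A' (MvPolynomial σ A')) B b') =
        bmap (ψ.restrictScalars A) B (gen e A' Sum.inr *
          bmap (IsScalarTower.toAlgHom A A' (MvPolynomial (Fin n ⊕ Fin n) A')) B b') := by
      rw [map_mul, map_mul, hψ2, bmap_bmap, bmap_bmap]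
      congr 3
      apply AlgHom.ext
      intro a
      simp only [AlgHom.comp_apply, AlgHom.restrictScalars_apply, IsScalarTower.coe_toAlgHom',
        AlgHom.commutes]
      rfl
    rw [← hψ1, h3, D_bmap]
    have h4 : D F _ (gen e A' Sum.inl) (gen e A' Sum.inr *
      bmap (IsScalarTower.toAlgHom A A' (MvPolynomial (Fin n ⊕ Fin n) A')) B b') = 0 := h
    rw [h4, map_zero]

/-- **Flat base change in characteristic zero.** -/
theorem good_flat [Algebra ℚ A] [Module.Finite A B] (F : B →ₚₗ[A] A) (A' : Type u) [CommRing A']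
    [Algebra A A'] [Module.Flat A A'] : Good F A' := by
  obtain ⟨n, e, he⟩ := Module.Finite.exists_fin (R := A) (M := B)
  intro b' hb'
  rw [mem_kerBC_iff_L e F he] at hb'
  let L₀ : B →ₗ[A] MvPolynomial (Fin n ⊕ Fin n) A :=
    (L e F A) ∘ₗ (TensorProduct.lid A B).symm.toLinearMap
  have hL : ∀ z : A' ⊗[A] B, L e F A' z =
      MvPolynomial.algebraTensorAlgEquiv A A'
        (TensorProduct.AlgebraTensorModule.lTensor A' A' L₀ z) := by
    intro z
    induction z using TensorProduct.induction_on with
    | zero => simp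
    | tmul a b =>
      rw [L_tmul, TensorProduct.AlgebraTensorModule.lTensor_tmul,
        MvPolynomial.algebraTensorAlgEquiv_tmul]
      rfl
    | add x y hx hy => rw [map_add, map_add, map_add, hx, hy]
  rw [hL, EmbeddingLike.map_eq_zero_iff] at hb'
  have h1 : b' ∈ LinearMap.ker (TensorProduct.AlgebraTensorModule.lTensor A' A' L₀) := hb'
  rw [Module.Flat.ker_lTensor_eq] at h1
  obtain ⟨z, rfl⟩ := h1
  clear hb'
  induction z using TensorProduct.induction_on with
  | zero => simp
  | tmul a b =>
    rw [TensorProduct.AlgebraTensorModule.lTensor_tmul]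
    have hb : (b : B) ∈ PolLaw.ker F := by
      rw [← mem_ker_iff_mem_kerBC_self, mem_kerBC_iff_L e F he]
      exact b.2
    have h2 : a ⊗ₜ[A] ((LinearMap.ker L₀).subtype b) =
        (a ⊗ₜ[A] (1 : B)) * (Algebra.TensorProduct.includeRight : B →ₐ[A] A' ⊗[A] B) (b : B) := by
      simp
    rw [h2]
    exact Ideal.mul_mem_left _ _
      (Ideal.mem_map_of_mem (Algebra.TensorProduct.includeRight : B →ₐ[A] A' ⊗[A] B) hb)
  | add x y hx hy =>
    rw [map_add]
    exact add_mem hx hy

end Flat

end K756.Lin
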