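import Groth.Agent.ZeroCyc.K756.Rad
import Mathlib.RingTheory.Ideal.MinimalPrime.Localization
import Mathlib.RingTheory.Ideal.GoingDown
import Mathlib.RingTheory.Ideal.GoingUp

/-!
The image of a family of zero-cycles is universally generizing over the base.
-/

set_option autoImplicit false
set_option linter.style.haveILetI false

universe u

open scoped TensorProduct

namespace K756.Gen

open K756.KerBC K756.Sat K756.BC K756.CharP K756.Rad

section Domain

variable {A : Type u} [CommRing A] {B : Type u} [CommRing B] [Algebra A B] {d : ℕ}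

theorem mem_ker_of_smul_mem (F : B →ₚₗ[A] A) {a : A} (ha : a ∈ nonZeroDivisors A) {b : B}
    (h : a • b ∈ PolLaw.ker F) : b ∈ PolLaw.ker F := by
  rw [← mem_ker_iff_mem_kerBC_self] at h ⊢
  refine mem_kerBC_of_smul_mem F A ha ?_
  rwa [← TensorProduct.tmul_smul]

/-- Minimal primes over the kernel lie over the generic point. -/
theorem comap_eq_bot [IsDomain A] (F : B →ₚₗ[A] A) {P : Ideal B}
    (hP : P ∈ (PolLaw.ker F).minimalPrimes) : P.comap (algebraMap A B) = ⊥ := by
  rw [eq_bot_iff]
  intro a ha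
  by_contra hne
  obtain ⟨y, hy, hxy⟩ := Ideal.exists_mul_mem_of_mem_minimalPrimes hP (Ideal.mem_comap.mp ha)
  rw [← Algebra.smul_def] at hxy
  exact hy (mem_ker_of_smul_mem F (mem_nonZeroDivisors_of_ne_zero hne) hxy)

/-- Primes of the base lift to primes above a given prime containing the kernel. -/
theorem exists_prime_over (F : PolLaw.MulLaw A B A d) {P : Ideal B}
    (hP : PolLaw.ker F.law ≤ P) (q : Ideal A) [q.IsPrime] (hq : P.comap (algebraMap A B) ≤ q) :
    ∃ Q : Ideal B, Q.IsPrime ∧ P ≤ Q ∧ Q.comap (algebraMap A B) = q := by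
  haveI := isIntegral_image F
  let m := Ideal.Quotient.mk (PolLaw.ker F.law)
  have h1 : (P.map m).comap (algebraMap A (PolLaw.image F.law)) ≤ q := by
    have h2 : algebraMap A (PolLaw.image F.law) = m.comp (algebraMap A B) := rfl
    rw [h2, ← Ideal.comap_comap, Ideal.comap_map_mk hP]
    exact hq
  obtain ⟨Q, hPQ, hQ, hQq⟩ := Ideal.exists_ideal_over_prime_of_isIntegral q (P.map m) h1
  exact ⟨Q.comap m, Ideal.comap_isPrime m Q, Ideal.map_le_iff_le_comap.mp hPQ, hQq⟩

end Domain

section Main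

variable {A : Type u} [CommRing A] {B : Type u} [CommRing B] [Algebra A B] {d : ℕ}

theorem ker_bmap_of_surjective {S S' : Type u} [CommRing S] [Algebra A S] [CommRing S']
    [Algebra A S'] (φ : S →ₐ[A] S') (hφ : Function.Surjective φ) :
    RingHom.ker (bmap φ B) = (RingHom.ker φ).map
      (Algebra.TensorProduct.includeLeft : S →ₐ[A] S ⊗[A] B) :=
  Algebra.TensorProduct.rTensor_ker φ hφ

theorem ker_map_of_surjective {S : Type u} [CommRing S] [Algebra A S] {B' : Type u}
    [CommRing B'] [Algebra A B'] (g : B →ₐ[A] B') (hg : Function.Surjective g) :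
    RingHom.ker (Algebra.TensorProduct.map (AlgHom.id A S) g) = (RingHom.ker g).map
      (Algebra.TensorProduct.includeRight : B →ₐ[A] S ⊗[A] B) :=
  Algebra.TensorProduct.lTensor_ker g hg

/-- **Going down** for the base change of the image. -/
theorem hasGoingDown (F : PolLaw.MulLaw A B A d) (A' : Type u) [CommRing A'] [Algebra A A'] :
    Algebra.HasGoingDown A' (A' ⊗[A] PolLaw.image F.law) := by
  refine ⟨fun {p} _ Q _ hlt => ?_⟩
  let K := PolLaw.ker F.law
  let ρ : A' ⊗[A] B →ₐ[A] A' ⊗[A] PolLaw.image F.law :=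
    Algebra.TensorProduct.map (AlgHom.id A A') (Ideal.Quotient.mkₐ A K)
  have hρ : Function.Surjective ρ :=
    Algebra.TensorProduct.map_surjective _ _ Function.surjective_id Ideal.Quotient.mk_surjective
  have hρk : RingHom.ker ρ = K.map (Algebra.TensorProduct.includeRight : B →ₐ[A] A' ⊗[A] B) := by
    have h := ker_map_of_surjective (S := A') (Ideal.Quotient.mkₐ A K) Ideal.Quotient.mk_surjective
    have h2 : RingHom.ker (Ideal.Quotient.mkₐ A K) = K := Ideal.mk_ker
    rw [h2] at h
    exact h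
  let D := A' ⧸ p
  let φ : A' →ₐ[A] D := Ideal.Quotient.mkₐ A p
  have hφ : Function.Surjective φ := Ideal.Quotient.mk_surjective
  let π : A' ⊗[A] B →ₐ[A] D ⊗[A] B := bmap φ B
  have hπ : Function.Surjective π := bmap_surjective hφ
  have hπk : RingHom.ker π = p.map
      (Algebra.TensorProduct.includeLeft : A' →ₐ[A] A' ⊗[A] B) := by
    have h := ker_bmap_of_surjective (B := B) φ hφ
    have h2 : RingHom.ker φ = p := Ideal.mk_ker
    rw [h2] at h
    exact h
  -- the prime `Q` in `A' ⊗ B` and in `D ⊗ B`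
  let QB : Ideal (A' ⊗[A] B) := Q.comap ρ
  haveI : QB.IsPrime := Ideal.comap_isPrime ρ Q
  have hKQ : K.map (Algebra.TensorProduct.includeRight : B →ₐ[A] A' ⊗[A] B) ≤ QB := by
    rw [← hρk]
    exact Ideal.comap_mono bot_le
  have hunder : QB.comap (Algebra.TensorProduct.includeLeft : A' →ₐ[A] A' ⊗[A] B) =
      Q.under A' := by
    ext a
    simp only [QB, Ideal.mem_comap]
    have : ρ ((Algebra.TensorProduct.includeLeft : A' →ₐ[A] A' ⊗[A] B) a) =
        algebraMap A' (A' ⊗[A] PolLaw.image F.law) a := by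
      simp [ρ]
    rw [this]
  have hpQ : RingHom.ker π ≤ QB := by
    rw [hπk, Ideal.map_le_iff_le_comap, hunder]
    exact hlt.le
  let QD : Ideal (D ⊗[A] B) := QB.map π
  haveI : QD.IsPrime := Ideal.map_isPrime_of_surjective hπ hpQ
  have hQD : QD.comap π = QB := by
    rw [Ideal.comap_map_of_surjective π hπ]
    exact sup_eq_left.mpr hpQ
  -- the kernel of the base changed law
  let F' := bcm F D
  have hF' : PolLaw.ker F'.law = PolLaw.kerBC F.law D := ker_bcm F D
  have hker : PolLaw.ker F'.law ≤ QD := by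
    rw [hF']
    refine le_trans Ideal.le_radical ?_
    rw [radical_kerBC, Ideal.IsPrime.radical_le_iff inferInstance, Ideal.map_le_iff_le_comap]
    intro b hb
    have h1 : (Algebra.TensorProduct.includeRight : B →ₐ[A] D ⊗[A] B) b =
        π ((Algebra.TensorProduct.includeRight : B →ₐ[A] A' ⊗[A] B) b) := by
      simp [π]
    rw [Ideal.mem_comap, h1]
    exact Ideal.mem_map_of_mem π (hKQ (Ideal.mem_map_of_mem _ hb))
  obtain ⟨PD, hPD, hPQ⟩ := Ideal.exists_minimalPrimes_le hker
  haveI := hPD.1.1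
  have hbot := comap_eq_bot F'.law hPD
  let PB : Ideal (A' ⊗[A] B) := PD.comap π
  haveI : PB.IsPrime := Ideal.comap_isPrime π PD
  have hKP : RingHom.ker ρ ≤ PB := by
    rw [hρk, Ideal.map_le_iff_le_comap]
    intro b hb
    have h1 : π ((Algebra.TensorProduct.includeRight : B →ₐ[A] A' ⊗[A] B) b) =
        (1 : D) ⊗ₜ[A] b := by
      simp [π]
    rw [Ideal.mem_comap, Ideal.mem_comap, h1]
    apply hPD.1.2
    rw [hF']
    exact one_tmul_mem_kerBC F.law D hb
  refine ⟨PB.map ρ, ?_, Ideal.map_isPrime_of_surjective hρ hKP, ⟨?_⟩⟩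
  · rw [Ideal.map_le_iff_le_comap]
    change PB ≤ QB
    rw [← hQD]
    exact Ideal.comap_mono hPQ
  · ext a
    have h2 : (PB.map ρ).comap ρ = PB := by
      rw [Ideal.comap_map_of_surjective ρ hρ]
      exact sup_eq_left.mpr hKP
    have h3 : a ∈ (PB.map ρ).under A' ↔
        (Algebra.TensorProduct.includeLeft : A' →ₐ[A] A' ⊗[A] B) a ∈ PB := by
      have h5 : ρ ((Algebra.TensorProduct.includeLeft : A' →ₐ[A] A' ⊗[A] B) a) =
          algebraMap A' (A' ⊗[A] PolLaw.image F.law) a := by
        simp [ρ]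
      conv_rhs => rw [← h2, Ideal.mem_comap, h5]
      rfl
    rw [h3]
    have h4 : π ((Algebra.TensorProduct.includeLeft : A' →ₐ[A] A' ⊗[A] B) a) =
        algebraMap D (D ⊗[A] B) (Ideal.Quotient.mk p a) := by
      simp [π, φ]
      rfl
    rw [Ideal.mem_comap, h4, ← Ideal.mem_comap, hbot, Ideal.mem_bot, Ideal.Quotient.eq_zero_iff_mem]

end Main

end K756.Gen
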