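import Groth.Agent.ZeroCyc.K756.Gen
import Mathlib.AlgebraicGeometry.Morphisms.UniversallyOpen
import Mathlib.RingTheory.LocalRing.ResidueField.Ideal

/-!
The image of a family of zero-cycles is universally open over the base.
-/

set_option autoImplicit false
set_option linter.style.haveILetI false

universe u

open scoped TensorProduct

namespace K756.Open

open K756.KerBC K756.Sat K756.BC K756.CharP K756.Rad K756.Gen

section Top

variable {A : Type u} [CommRing A] {B : Type u} [CommRing B] [Algebra A B] {d : ℕ}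

theorem mul_neg_geom_sum₂ {R : Type u} [CommRing R] (x y : R) (n : ℕ) :
    (y - x) * (-(∑ i ∈ Finset.range n, x ^ i * y ^ (n - 1 - i))) = x ^ n - y ^ n := by
  rw [mul_neg, ← neg_mul, neg_sub, (Commute.all _ _).mul_geom_sum₂]

/-- If a power of `b` is in the kernel over a field, then the characteristic polynomial is a
power of the variable. -/
theorem coeff_chp_eq_zero (F : PolLaw.MulLaw A B A d) (κ : Type u) [Field κ] [Algebra A κ] (b : B)
    (N : ℕ) (hN : ((1 : κ) ⊗ₜ[A] b) ^ N ∈ PolLaw.kerBC F.law κ) (i : ℕ) (hi : i < d) :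
    algebraMap A κ ((chp F.law b).coeff i) = 0 := by
  obtain ⟨hdeg, hcoeff⟩ := chp_expand F b
  set χ : Polynomial κ := (chp F.law b).map (algebraMap A κ) with hχ
  have hχv : χ = val F.law (Polynomial κ) (1 ⊗ₜ[A] b - Polynomial.X ⊗ₜ[A] 1) := by
    have h1 := aeval_chp F.law b (Polynomial.X : Polynomial κ)
    rw [← h1, hχ]
    rw [Polynomial.aeval_def, Polynomial.eval₂_eq_sum_range, Polynomial.map]
    rw [Polynomial.eval₂_eq_sum_range]
    rfl
  have h2 : val F.law (Polynomial κ) ((Polynomial.X ^ N : Polynomial κ) ⊗ₜ[A] (1 : B) -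
      (1 : Polynomial κ) ⊗ₜ[A] (b ^ N)) = Polynomial.X ^ (N * d) := by
    have h3 := hN (Polynomial κ) ((Polynomial.X ^ N : Polynomial κ) ⊗ₜ[A] 1) (-1)
    rw [← val_inj, map_pow, Algebra.TensorProduct.map_tmul, map_one, AlgHom.id_apply,
      Algebra.TensorProduct.tmul_pow, one_pow] at h3
    have h3' : (Polynomial.X ^ N : Polynomial κ) ⊗ₜ[A] (1 : B) -
        (1 : Polynomial κ) ⊗ₜ[A] (b ^ N) = (Polynomial.X ^ N : Polynomial κ) ⊗ₜ[A] (1 : B) +
        (-1) * (1 : Polynomial κ) ⊗ₜ[A] (b ^ N) := by ring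
    rw [h3', h3]
    have h4 : (Polynomial.X ^ N : Polynomial κ) ⊗ₜ[A] (1 : B) =
        (Polynomial.X ^ N : Polynomial κ) • (1 : Polynomial κ ⊗[A] B) := by
      rw [Algebra.TensorProduct.one_def, TensorProduct.smul_tmul', smul_eq_mul, mul_one]
    rw [h4, val_smul F.law F.homog, val_one F.law F.mult, mul_one, ← pow_mul]
  have h5 : χ ∣ (Polynomial.X : Polynomial κ) ^ (N * d) := by
    rw [← h2, hχv]
    have h6 : (Polynomial.X ^ N : Polynomial κ) ⊗ₜ[A] (1 : B) - 1 ⊗ₜ[A] (b ^ N) =
        (1 ⊗ₜ[A] b - (Polynomial.X : Polynomial κ) ⊗ₜ[A] (1 : B)) *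
          (-(∑ i ∈ Finset.range N, ((Polynomial.X : Polynomial κ) ⊗ₜ[A] (1 : B)) ^ i *
            (1 ⊗ₜ[A] b) ^ (N - 1 - i))) := by
      rw [mul_neg_geom_sum₂, Algebra.TensorProduct.tmul_pow, Algebra.TensorProduct.tmul_pow,
        one_pow, one_pow]
    rw [h6, val_mul F.law F.mult]
    exact dvd_mul_right _ _
  rw [dvd_prime_pow Polynomial.prime_X] at h5
  obtain ⟨j, -, hj⟩ := h5
  obtain ⟨u, hu⟩ := hj.symm
  have hcd : χ.coeff d = (-1) ^ d := by
    rw [hχ, Polynomial.coeff_map, hcoeff]; simp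
  have hjd : j = d := by
    have h7 : χ.natDegree = j := by
      rw [Polynomial.natDegree_eq_of_degree_eq (Polynomial.degree_eq_degree_of_associated hj),
        Polynomial.natDegree_X_pow]
    have h8 : χ.natDegree = d := by
      refine le_antisymm (Polynomial.natDegree_map_le.trans hdeg) ?_
      apply Polynomial.le_natDegree_of_ne_zero
      rw [hcd]
      exact pow_ne_zero _ (neg_ne_zero.mpr one_ne_zero)
    rw [← h7, h8]
  subst hjd
  have h9 : χ.coeff i = 0 := by
    rw [← hu, mul_comm, Polynomial.coeff_mul_X_pow', if_neg (by omega)]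
  rwa [hχ, Polynomial.coeff_map] at h9

/-- The image in `Spec A` of the basic open of `b` in `Spec (B / ker F)`. -/
def imSet (F : PolLaw.MulLaw A B A d) (b : B) : Set (PrimeSpectrum A) :=
  {q | ∃ Q : Ideal B, Q.IsPrime ∧ PolLaw.ker F.law ≤ Q ∧ b ∉ Q ∧
    Q.comap (algebraMap A B) = q.asIdeal}

theorem imSet_eq (F : PolLaw.MulLaw A B A d) (b : B) :
    imSet F b = ⋃ i : Fin d,
      (PrimeSpectrum.basicOpen ((chp F.law b).coeff i) : Set (PrimeSpectrum A)) := by
  obtain ⟨hdeg, hcoeff⟩ := chp_expand F b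
  ext q
  simp only [imSet, Set.mem_ofPred_eq, Set.mem_iUnion, SetLike.mem_coe, PrimeSpectrum.mem_basicOpen]
  constructor
  · rintro ⟨Q, hQ, hKQ, hbQ, hq⟩
    by_contra hcon
    push Not at hcon
    apply hbQ
    have h1 : Polynomial.aeval b (chp F.law b) ∈ Q := hKQ (aeval_chp_mem_ker F b)
    rw [Polynomial.aeval_eq_sum_range' (Nat.lt_succ_of_le hdeg), Finset.sum_range_succ,
      hcoeff] at h1
    have h2 : ∑ i ∈ Finset.range d, (chp F.law b).coeff i • b ^ i ∈ Q := by
      refine sum_mem fun i hi => ?_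
      rw [Algebra.smul_def]
      refine Ideal.mul_mem_right _ _ ?_
      have h3 := hcon ⟨i, Finset.mem_range.mp hi⟩
      rw [← hq] at h3
      exact h3
    have h4 := (Ideal.add_mem_iff_right Q h2).mp h1
    have h5 : b ^ d = (-1 : A) ^ d • ((-1 : A) ^ d • b ^ d) := by
      rw [smul_smul, ← mul_pow]; simp
    have h6 : b ^ d ∈ Q := by
      rw [h5, Algebra.smul_def]
      exact Ideal.mul_mem_left _ _ h4
    exact hQ.mem_of_pow_mem d h6
  · rintro ⟨i, hi⟩
    let κ := q.asIdeal.ResidueField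
    by_contra hcon
    apply hi
    have h1 : (1 : κ) ⊗ₜ[A] b ∈ ((PolLaw.ker F.law).map
        (Algebra.TensorProduct.includeRight : B →ₐ[A] κ ⊗[A] B)).radical := by
      by_contra h2
      rw [Ideal.radical_eq_sInf, Submodule.mem_sInf] at h2
      push Not at h2
      obtain ⟨Q', ⟨hKQ', hQ'⟩, hbQ'⟩ := h2
      apply hcon
      let incl : B →ₐ[A] κ ⊗[A] B := Algebra.TensorProduct.includeRight
      refine ⟨Ideal.comap incl Q', Ideal.comap_isPrime incl Q', ?_, hbQ', ?_⟩
      · rw [← Ideal.map_le_iff_le_comap]; exact hKQ'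
      · have h3 : Ideal.comap (algebraMap A B) (Ideal.comap incl Q') =
            Ideal.comap (algebraMap A κ) (Ideal.comap (algebraMap κ (κ ⊗[A] B)) Q') := by
          ext a
          simp only [Ideal.mem_comap]
          have : incl (algebraMap A B a) = algebraMap κ (κ ⊗[A] B) (algebraMap A κ a) := by
            rw [incl.commutes, ← IsScalarTower.algebraMap_apply]
          rw [this]
        have h4 : Ideal.comap (algebraMap κ (κ ⊗[A] B)) Q' = ⊥ := by
          haveI := Ideal.comap_isPrime (algebraMap κ (κ ⊗[A] B)) Q'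
          exact (Ideal.eq_bot_or_top _).resolve_right this.ne_top
        rw [h3, h4, ← RingHom.ker_eq_comap_bot, Ideal.ker_algebraMap_residueField]
    obtain ⟨N, hN⟩ := h1
    have h5 := coeff_chp_eq_zero F κ b N (map_ker_le_kerBC F.law κ hN) i i.2
    rw [← RingHom.mem_ker, Ideal.ker_algebraMap_residueField] at h5
    exact h5

theorem isOpen_imSet (F : PolLaw.MulLaw A B A d) (b : B) : IsOpen (imSet F b) := by
  rw [imSet_eq]
  exact isOpen_iUnion fun i => (PrimeSpectrum.basicOpen _).isOpen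

/-- **The image is universally open over the base** (topologically, after any base change). -/
theorem isOpenMap_comap (F : PolLaw.MulLaw A B A d) (A' : Type u) [CommRing A'] [Algebra A A'] :
    IsOpenMap (PrimeSpectrum.comap (algebraMap A' (A' ⊗[A] PolLaw.image F.law))) := by
  rw [PrimeSpectrum.isTopologicalBasis_basic_opens.isOpenMap_iff]
  rintro _ ⟨g, rfl⟩
  let K := PolLaw.ker F.law
  let ρ : A' ⊗[A] B →ₐ[A] A' ⊗[A] PolLaw.image F.law :=
    Algebra.TensorProduct.map (AlgHom.id A A') (Ideal.Quotient.mkₐ A K)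
  have hρ : Function.Surjective ρ :=
    Algebra.TensorProduct.map_surjective _ _ Function.surjective_id Ideal.Quotient.mk_surjective
  have hρk : RingHom.ker ρ = K.map (Algebra.TensorProduct.includeRight : B →ₐ[A] A' ⊗[A] B) := by
    have h := ker_map_of_surjective (S := A') (Ideal.Quotient.mkₐ A K) Ideal.Quotient.mk_surjective
    have h2 : RingHom.ker (Ideal.Quotient.mkₐ A K) = K := Ideal.mk_ker
    rw [h2] at h
    exact h
  have hρa : ∀ a : A', ρ (algebraMap A' (A' ⊗[A] B) a) =
      algebraMap A' (A' ⊗[A] PolLaw.image F.law) a := by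
    intro a
    simp [ρ]
  obtain ⟨b', rfl⟩ := hρ g
  let F' := bcm F A'
  have hkk : ∀ Q : Ideal (A' ⊗[A] B), Q.IsPrime → (RingHom.ker ρ ≤ Q ↔ PolLaw.ker F'.law ≤ Q) := by
    intro Q hQ
    rw [hρk, ← hQ.radical_le_iff, ← radical_kerBC, hQ.radical_le_iff, ker_bcm]
  have h1 : PrimeSpectrum.comap (algebraMap A' (A' ⊗[A] PolLaw.image F.law)) ''
      (PrimeSpectrum.basicOpen (ρ b') : Set (PrimeSpectrum (A' ⊗[A] PolLaw.image F.law))) =
      imSet F' b' := by
    ext q
    constructor
    · rintro ⟨Q, hQ, rfl⟩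
      refine ⟨Q.asIdeal.comap ρ, Ideal.comap_isPrime ρ _, ?_, hQ, ?_⟩
      · rw [← hkk _ (Ideal.comap_isPrime ρ _)]
        exact Ideal.comap_mono bot_le
      · ext a
        simp only [Ideal.mem_comap, PrimeSpectrum.comap_asIdeal]
        rw [hρa]
    · rintro ⟨Q, hQ, hKQ, hb, hq⟩
      have hle : RingHom.ker ρ ≤ Q := (hkk Q hQ).mpr hKQ
      have hcm : (Q.map ρ).comap ρ = Q := by
        rw [Ideal.comap_map_of_surjective ρ hρ]
        exact sup_eq_left.mpr hle
      refine ⟨⟨Q.map ρ, Ideal.map_isPrime_of_surjective hρ hle⟩, ?_, ?_⟩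
      · intro h
        apply hb
        rw [← hcm]
        exact h
      · apply PrimeSpectrum.ext
        rw [← hq]
        ext a
        conv_rhs => rw [← hcm]
        simp only [Ideal.mem_comap, PrimeSpectrum.comap_asIdeal]
        rw [hρa]
  rw [h1]
  exact isOpen_imSet F' b'

end Top

open AlgebraicGeometry CategoryTheory Limits MorphismProperty in
/-- Universal openness of `Spec B → Spec A` may be tested on ring base changes. -/
theorem universallyOpen_Spec_map {A B : Type u} [CommRing A] [CommRing B] [Algebra A B]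
    (H : ∀ (A' : Type u) [CommRing A'] [Algebra A A'],
      IsOpenMap (PrimeSpectrum.comap (algebraMap A' (A' ⊗[A] B)))) :
    UniversallyOpen (Spec.map (CommRingCat.ofHom (algebraMap A B))) := by
  refine ⟨universally_mk' _ _ fun {T} g _ ↦ ?_⟩
  wlog hT : ∃ R, T = Spec R generalizing T
  · refine (IsZariskiLocalAtTarget.iff_of_openCover (P := topologically IsOpenMap)
      T.affineCover).mpr fun i ↦ ?_
    refine (MorphismProperty.cancel_left_of_respectsIso _
      ((pullbackRightPullbackFstIso ..).inv ≫ (pullbackSymmetry ..).hom) _).mp ?_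
    simpa [Scheme.Cover.pullbackHom] using! this _ _ ⟨_, rfl⟩
  obtain ⟨R, rfl⟩ := hT
  obtain ⟨ψ, rfl⟩ := Spec.map_surjective g
  let _ : Algebra A R := ψ.hom.toAlgebra
  refine (MorphismProperty.cancel_left_of_respectsIso _ (pullbackSpecIso A R B).inv _).mp ?_
  convert_to! topologically _ (Spec.map <| CommRingCat.ofHom (algebraMap R (TensorProduct A R B)))
  · exact pullbackSpecIso_inv_fst ..
  · exact H R

end K756.Open
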