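import Groth.Agent.ZeroCyc.K756.Sat
import Groth.Agent.ZeroCyc.K757.Coeff
import Mathlib.RingTheory.Finiteness.Basic

/-!
Kernels of base changes of laws commute with direct limits (algebras finite as modules).
-/

set_option autoImplicit false
set_option linter.style.haveILetI false

universe u

open scoped TensorProduct

namespace K756.Direct

open K756.KerBC K756.Sat

section Poly

variable {A : Type u} [CommRing A] {B : Type u} [CommRing B] [Algebra A B]
  {ι : Type u} [Fintype ι] (e : ι → B) (F : B →ₚₗ[A] A)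

/-- the generic elements over `A''`. -/
noncomputable def gx (A'' : Type u) [CommRing A''] [Algebra A A''] :
    MvPolynomial (ι ⊕ ι) A'' ⊗[A] B :=
  ∑ i, (MvPolynomial.X (Sum.inl i) : MvPolynomial (ι ⊕ ι) A'') ⊗ₜ[A] e i

noncomputable def gw (A'' : Type u) [CommRing A''] [Algebra A A''] :
    MvPolynomial (ι ⊕ ι) A'' ⊗[A] B :=
  ∑ i, (MvPolynomial.X (Sum.inr i) : MvPolynomial (ι ⊕ ι) A'') ⊗ₜ[A] e i

/-- the universal obstruction to lying in the kernel. -/
noncomputable def obs (A'' : Type u) [CommRing A''] [Algebra A A''] (b : A'' ⊗[A] B) :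
    MvPolynomial (ι ⊕ ι) A'' :=
  val F (MvPolynomial (ι ⊕ ι) A'')
    (gx e A'' + gw e A'' * bmap (IsScalarTower.toAlgHom A A'' (MvPolynomial (ι ⊕ ι) A'')) B b) -
    val F (MvPolynomial (ι ⊕ ι) A'') (gx e A'')

theorem exists_sum (he : Submodule.span A (Set.range e) = ⊤) {S : Type u} [CommSemiring S]
    [Algebra A S] (x : S ⊗[A] B) : ∃ t : ι → S, x = ∑ i, t i ⊗ₜ[A] e i := by
  classical
  obtain ⟨s, t, rfl⟩ := K757.Coeff.exists_sum_of_span he x
  refine ⟨fun i => if i ∈ s then t i else 0, ?_⟩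
  rw [← Finset.sum_subset (Finset.subset_univ s)]
  · exact Finset.sum_congr rfl fun i hi => by dsimp only; rw [if_pos hi]
  · intro i _ hi
    dsimp only
    rw [if_neg hi, TensorProduct.zero_tmul]

theorem mem_kerBC_iff_obs (he : Submodule.span A (Set.range e) = ⊤)
    (A'' : Type u) [CommRing A''] [Algebra A A''] (b : A'' ⊗[A] B) :
    b ∈ PolLaw.kerBC F A'' ↔ obs e F A'' b = 0 := by
  rw [obs, sub_eq_zero, val_inj]
  constructor
  · intro h
    exact h _ _ _
  · intro h R _ _ _ _ x w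
    obtain ⟨t, rfl⟩ := exists_sum e he x
    obtain ⟨s, rfl⟩ := exists_sum e he w
    let ψ : MvPolynomial (ι ⊕ ι) A'' →ₐ[A] R :=
      (MvPolynomial.aeval (R := A'') (Sum.elim t s)).restrictScalars A
    have hψl : ∀ i, ψ (MvPolynomial.X (Sum.inl i)) = t i := fun i => by simp [ψ]
    have hψr : ∀ i, ψ (MvPolynomial.X (Sum.inr i)) = s i := fun i => by simp [ψ]
    have h1 : bmap ψ B (gx e A'') = ∑ i, t i ⊗ₜ[A] e i := by
      rw [gx, map_sum]
      exact Finset.sum_congr rfl fun i _ => by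
        rw [Algebra.TensorProduct.map_tmul, hψl, AlgHom.id_apply]
    have h2 : bmap ψ B (gw e A'') = ∑ i, s i ⊗ₜ[A] e i := by
      rw [gw, map_sum]
      exact Finset.sum_congr rfl fun i _ => by
        rw [Algebra.TensorProduct.map_tmul, hψr, AlgHom.id_apply]
    have hc : IsScalarTower.toAlgHom A A'' R =
        ψ.comp (IsScalarTower.toAlgHom A A'' (MvPolynomial (ι ⊕ ι) A'')) := by
      ext a
      simp [ψ]
    have hb : Algebra.TensorProduct.map (IsScalarTower.toAlgHom A A'' R) (AlgHom.id A B) b =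
        bmap ψ B (bmap (IsScalarTower.toAlgHom A A'' (MvPolynomial (ι ⊕ ι) A'')) B b) := by
      rw [bmap_bmap, ← hc]
    rw [hb, ← h1, ← h2, ← map_mul, ← map_add, toFun'_bmap, toFun'_bmap, h]

theorem obs_map {A'' A₃ : Type u} [CommRing A''] [Algebra A A''] [CommRing A₃] [Algebra A A₃]
    (φ : A'' →ₐ[A] A₃) (b : A'' ⊗[A] B) :
    obs e F A₃ (bmap φ B b) = MvPolynomial.mapAlgHom φ (obs e F A'' b) := by
  have hx : bmap (MvPolynomial.mapAlgHom (σ := ι ⊕ ι) φ) B (gx e A'') = gx e A₃ := by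
    rw [gx, gx, map_sum]
    exact Finset.sum_congr rfl fun i _ => by
      rw [Algebra.TensorProduct.map_tmul, AlgHom.id_apply, MvPolynomial.mapAlgHom_apply,
        MvPolynomial.map_X]
  have hw : bmap (MvPolynomial.mapAlgHom (σ := ι ⊕ ι) φ) B (gw e A'') = gw e A₃ := by
    rw [gw, gw, map_sum]
    exact Finset.sum_congr rfl fun i _ => by
      rw [Algebra.TensorProduct.map_tmul, AlgHom.id_apply, MvPolynomial.mapAlgHom_apply,
        MvPolynomial.map_X]
  have hb : bmap (IsScalarTower.toAlgHom A A₃ (MvPolynomial (ι ⊕ ι) A₃)) B (bmap φ B b) =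
      bmap (MvPolynomial.mapAlgHom (σ := ι ⊕ ι) φ) B
        (bmap (IsScalarTower.toAlgHom A A'' (MvPolynomial (ι ⊕ ι) A'')) B b) := by
    rw [bmap_bmap, bmap_bmap]
    congr 2
    ext a
    simp
  rw [obs, obs, hb, ← hx, ← hw, ← map_mul, ← map_add, val_bmap, val_bmap, map_sub]

end Poly

section Lim

variable {A : Type u} [CommRing A] {B : Type u} [CommRing B] [Algebra A B]
    {A' : Type u} [CommRing A'] [Algebra A A'] {ι : Type u} [Preorder ι]
    [IsDirected ι (fun i j => i ≤ j)] [Nonempty ι]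
    (Ai : ι → Type u) [∀ i, CommRing (Ai i)] [∀ i, Algebra A (Ai i)]
    (t : ∀ i j : ι, i ≤ j → (Ai i →ₐ[A] Ai j)) (φ : ∀ i : ι, Ai i →ₐ[A] A')

include t in
theorem exists_stage (hcomp : ∀ (i j : ι) (h : i ≤ j), (φ j).comp (t i j h) = φ i)
    (hsurj : ∀ a : A', ∃ (i : ι) (x : Ai i), φ i x = a) (b : A' ⊗[A] B) :
    ∃ (i : ι) (c : Ai i ⊗[A] B), bmap (φ i) B c = b := by
  induction b using TensorProduct.induction_on with
  | zero =>
    obtain ⟨i⟩ := ‹Nonempty ι›
    exact ⟨i, 0, map_zero _⟩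
  | tmul a b =>
    obtain ⟨i, x, rfl⟩ := hsurj a
    exact ⟨i, x ⊗ₜ[A] b, by simp⟩
  | add x y hx hy =>
    obtain ⟨i, c, rfl⟩ := hx
    obtain ⟨j, c', rfl⟩ := hy
    obtain ⟨k, hik, hjk⟩ := exists_ge_ge i j
    refine ⟨k, bmap (t i k hik) B c + bmap (t j k hjk) B c', ?_⟩
    rw [map_add, bmap_bmap, bmap_bmap, hcomp, hcomp]

omit [Nonempty ι] in
theorem exists_vanish (hzero : ∀ (i : ι) (x : Ai i), φ i x = 0 → ∃ (j : ι) (h : i ≤ j), t i j h x = 0)
    (htrans : ∀ (i j k : ι) (hij : i ≤ j) (hjk : j ≤ k), (t j k hjk).comp (t i j hij) = t i k (hij.trans hjk))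
    {κ : Type u} (i : ι) (p : MvPolynomial κ (Ai i))
    (hp : MvPolynomial.mapAlgHom (σ := κ) (φ i) p = 0) :
    ∃ (j : ι) (h : i ≤ j), MvPolynomial.mapAlgHom (σ := κ) (t i j h) p = 0 := by
  classical
  have key : ∀ s : Finset (κ →₀ ℕ), ∃ (j : ι) (h : i ≤ j), ∀ α ∈ s, t i j h (p.coeff α) = 0 := by
    intro s
    induction s using Finset.induction_on with
    | empty => exact ⟨i, le_rfl, by simp⟩
    | insert α s _ ih =>
      obtain ⟨j, hij, hj⟩ := ih
      have h1 : φ i (p.coeff α) = 0 := by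
        have := congrArg (MvPolynomial.coeff α) hp
        rw [MvPolynomial.mapAlgHom_apply, MvPolynomial.coeff_map, MvPolynomial.coeff_zero] at this
        exact this
      obtain ⟨k, hik, hk⟩ := hzero i _ h1
      obtain ⟨l, hjl, hkl⟩ := exists_ge_ge j k
      refine ⟨l, hij.trans hjl, fun β hβ => ?_⟩
      rcases Finset.mem_insert.mp hβ with rfl | hβ
      · have := htrans i k l hik hkl
        rw [← this, AlgHom.comp_apply, hk, map_zero]
      · have := htrans i j l hij hjl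
        rw [← this, AlgHom.comp_apply, hj β hβ, map_zero]
  obtain ⟨j, hij, hj⟩ := key p.support
  refine ⟨j, hij, ?_⟩
  ext α
  rw [MvPolynomial.mapAlgHom_apply, MvPolynomial.coeff_map, MvPolynomial.coeff_zero]
  by_cases hα : α ∈ p.support
  · exact hj α hα
  · rw [MvPolynomial.notMem_support_iff.mp hα, map_zero]

theorem kerBC_eq_iSup [Module.Finite A B]
    (hcomp : ∀ (i j : ι) (h : i ≤ j), (φ j).comp (t i j h) = φ i)
    (hsurj : ∀ a : A', ∃ (i : ι) (x : Ai i), φ i x = a)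
    (hzero : ∀ (i : ι) (x : Ai i), φ i x = 0 → ∃ (j : ι) (h : i ≤ j), t i j h x = 0)
    (htrans : ∀ (i j k : ι) (hij : i ≤ j) (hjk : j ≤ k), (t j k hjk).comp (t i j hij) = t i k (hij.trans hjk))
    (F : B →ₚₗ[A] A) :
    PolLaw.kerBC F A' =
      ⨆ i : ι, (PolLaw.kerBC F (Ai i)).map (Algebra.TensorProduct.map (φ i) (AlgHom.id A B)) := by
  apply le_antisymm
  · intro b hb
    obtain ⟨i, c, rfl⟩ := exists_stage Ai t φ hcomp hsurj b
    obtain ⟨n, f, hf⟩ := Module.Finite.exists_fin (R := A) (M := B)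
    let e : ULift.{u} (Fin n) → B := fun i => f i.down
    have he : Submodule.span A (Set.range e) = ⊤ := by
      have : Set.range e = Set.range f := by
        ext y
        constructor
        · rintro ⟨i, rfl⟩; exact ⟨i.down, rfl⟩
        · rintro ⟨i, rfl⟩; exact ⟨⟨i⟩, rfl⟩
      rw [this, hf]
    rw [mem_kerBC_iff_obs e F he, obs_map] at hb
    obtain ⟨j, hij, hj⟩ := exists_vanish Ai t φ hzero htrans i _ hb
    rw [← obs_map, ← mem_kerBC_iff_obs e F he] at hj
    refine Submodule.mem_iSup_of_mem j ?_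
    have h2 : bmap (φ i) B c = bmap (φ j) B (bmap (t i j hij) B c) := by
      rw [bmap_bmap, hcomp]
    rw [h2]
    exact Ideal.mem_map_of_mem _ hj
  · refine iSup_le fun i => ?_
    rw [Ideal.map_le_iff_le_comap]
    intro c hc
    exact bmap_mem_kerBC F (φ i) hc

end Lim

end K756.Direct
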