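import Groth.Agent.ZeroCyc.K757.Ev
import Mathlib.RingTheory.TensorProduct.MvPolynomial
import Mathlib.RingTheory.MvPolynomial.Basic
import Mathlib.RingTheory.LocalRing.ResidueField.Ideal
import Mathlib.RingTheory.Localization.FractionRing
import Mathlib.Algebra.Ring.GeomSum
import Mathlib.Algebra.MvPolynomial.Nilpotent

/-!
The image of a multiplicative law with values in a reduced algebra is reduced.
-/

set_option autoImplicit false
set_option linter.style.haveILetI false

universe u

open scoped TensorProduct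

namespace K756.Reduced

open K757.Ev

variable {A : Type u} [CommRing A] {B : Type u} [CommRing B] [Algebra A B]
  {C : Type u} [CommRing C] [Algebra A C]

theorem add_mul_geom_sum {R : Type u} [CommRing R] (a c : R) (n : ℕ) :
    (a + c) * (∑ i ∈ Finset.range n, a ^ i * (-c) ^ (n - 1 - i)) = a ^ n - (-c) ^ n := by
  rw [← (Commute.all a (-c)).mul_geom_sum₂, sub_neg_eq_add]

theorem ev_pow {F : B →ₚₗ[A] C} (hF : PolLaw.IsMult F) {T : Type u} [CommSemiring T] [Algebra A T]
    (g : C →ₐ[A] T) (x : T ⊗[A] B) (n : ℕ) : ev F g (x ^ n) = ev F g x ^ n := by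
  induction n with
  | zero => rw [pow_zero, pow_zero, ev_one hF]
  | succ n ih => rw [pow_succ, pow_succ, ev_mul hF, ih]

section FieldCase

variable {d : ℕ} (F : PolLaw.MulLaw A B C d) (L : Type u) [Field L] [Algebra A L] (g : C →ₐ[A] L)

/-- the map `L → L[s]`. -/
noncomputable abbrev i1 : L →ₐ[A] Polynomial L := IsScalarTower.toAlgHom A L (Polynomial L)

/-- the map `L[s] → L(s)`. -/
noncomputable abbrev i2 : Polynomial L →ₐ[A] FractionRing (Polynomial L) :=
  IsScalarTower.toAlgHom A (Polynomial L) (FractionRing (Polynomial L))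

/-- evaluation of polynomials in an `L`-algebra. -/
noncomputable abbrev evp {T : Type u} [CommRing T] [Algebra A T] [Algebra L T] [IsScalarTower A L T]
    (t : T) : Polynomial L →ₐ[A] T := (Polynomial.aeval t).restrictScalars A

theorem i2_injective : Function.Injective (i2 (A := A) L) :=
  IsFractionRing.injective (Polynomial L) (FractionRing (Polynomial L))

theorem bc_bc {T T' T'' : Type u} [CommSemiring T] [Algebra A T]
    [CommSemiring T'] [Algebra A T'] [CommSemiring T''] [Algebra A T'']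
    (h : T →ₐ[A] T') (h' : T' →ₐ[A] T'') (x : T ⊗[A] B) : bc B h' (bc B h x) = bc B (h'.comp h) x := by
  rw [← AlgHom.comp_apply]
  congr 1
  ext <;> simp

theorem bc_id {T : Type u} [CommSemiring T] [Algebra A T] (x : T ⊗[A] B) :
    bc B (AlgHom.id A T) x = x := by
  have : bc B (AlgHom.id A T) = AlgHom.id A (T ⊗[A] B) := by ext <;> simp
  rw [this]; rfl

theorem bc_smul {T T' : Type u} [CommSemiring T] [Algebra A T]
    [CommSemiring T'] [Algebra A T'] (h : T →ₐ[A] T') (t : T) (x : T ⊗[A] B) :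
    bc B h (t • x) = h t • bc B h x := by
  induction x using TensorProduct.induction_on with
  | zero => simp
  | tmul a b => simp [TensorProduct.smul_tmul']
  | add a b ha hb => simp only [map_add, smul_add, ha, hb]

theorem tmul_one_eq {T : Type u} [CommSemiring T] [Algebra A T] (t : T) :
    t ⊗ₜ[A] (1 : B) = t • (1 : T ⊗[A] B) := by
  rw [Algebra.TensorProduct.one_def, TensorProduct.smul_tmul', smul_eq_mul, mul_one]

theorem evp_comp_i1 {T : Type u} [CommRing T] [Algebra A T] [Algebra L T] [IsScalarTower A L T]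
    (t : T) : (evp (A := A) L t).comp (i1 L) = IsScalarTower.toAlgHom A L T := by
  ext a; simp

/-- `G(x + s)` is non-zero. -/
theorem ev_add_X_ne_zero (x : L ⊗[A] B) :
    ev F.law ((i1 L).comp g) (bc B (i1 L) x + (Polynomial.X : Polynomial L) ⊗ₜ[A] (1 : B)) ≠ 0 := by
  intro h
  let M := FractionRing (Polynomial L)
  let X' : M := algebraMap (Polynomial L) M Polynomial.X
  have hX' : X' ≠ 0 := by
    intro h0
    exact Polynomial.X_ne_zero (i2_injective (A := A) L (by rw [map_zero]; exact h0))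
  let σ : Polynomial L →ₐ[A] M := evp L X'⁻¹
  have h1 : ev F.law (σ.comp ((i1 L).comp g)) (bc B σ (bc B (i1 L) x + (Polynomial.X : Polynomial L) ⊗ₜ[A] (1 : B))) = 0 := by
    rw [← ev_map, h, map_zero]
  have h2 : σ.comp ((i1 L).comp g) = (i2 L).comp ((i1 L).comp g) := by
    rw [← AlgHom.comp_assoc, ← AlgHom.comp_assoc, evp_comp_i1]
    congr 1
  have h3 : X' • bc B σ (bc B (i1 L) x + (Polynomial.X : Polynomial L) ⊗ₜ[A] (1 : B)) =
      bc B (i2 L) ((Polynomial.X : Polynomial L) • bc B (i1 L) x + 1) := by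
    rw [map_add, map_add, bc_bc, evp_comp_i1, bc_smul, map_one, smul_add, bc_bc]
    congr 1
    rw [Algebra.TensorProduct.map_tmul, AlgHom.id_apply, tmul_one_eq, smul_smul]
    have : X' * σ Polynomial.X = 1 := by
      change X' * (Polynomial.aeval X'⁻¹) Polynomial.X = 1
      rw [Polynomial.aeval_X, mul_inv_cancel₀ hX']
    rw [this, one_smul]
  have h4 : ev F.law ((i2 L).comp ((i1 L).comp g)) (bc B (i2 L) ((Polynomial.X : Polynomial L) • bc B (i1 L) x + 1)) = 0 := by
    rw [← h3, ev_smul F.homog, ← h2, h1, mul_zero]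
  rw [← ev_map] at h4
  have h5 : ev F.law ((i1 L).comp g) ((Polynomial.X : Polynomial L) • bc B (i1 L) x + 1) = 0 :=
    i2_injective (A := A) L (h4.trans (map_zero _).symm)
  have h6 := congrArg (evp (A := A) L (0 : L)) h5
  rw [ev_map, map_add, bc_smul, map_one, map_zero] at h6
  have h7 : (evp (A := A) L (0 : L)) Polynomial.X = 0 := by
    change (Polynomial.aeval (0 : L)) Polynomial.X = 0
    rw [Polynomial.aeval_X]
  rw [h7, zero_smul, zero_add, ev_one F.mult] at h6
  exact one_ne_zero h6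

theorem aux_identity {R : Type u} [CommRing R] (a u v : R) (n : ℕ) :
    (a + u * v) * (∑ i ∈ Finset.range n, a ^ i * (-(u * v)) ^ (n - 1 - i)) =
      a ^ n + (-(-u) ^ n) * v ^ n := by
  rw [add_mul_geom_sum, ← neg_mul, mul_pow]
  ring

/-- Over a field, if `b ^ n` is in the kernel, then adding a multiple of `b` to an element with
non-zero value does not change the value. -/
theorem ev_add_eq_of_ne_zero {b : B} {n : ℕ} (hb : b ^ n ∈ PolLaw.ker F.law) (z w : L ⊗[A] B)
    (hz : ev F.law g z ≠ 0) : ev F.law g (z + w * (1 ⊗ₜ[A] b)) = ev F.law g z := by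
  let a : Polynomial L ⊗[A] B := bc B (i1 L) z
  let u : Polynomial L ⊗[A] B := (Polynomial.X : Polynomial L) • bc B (i1 L) w
  let v : Polynomial L ⊗[A] B := (1 : Polynomial L) ⊗ₜ[A] b
  let f := ev F.law ((i1 L).comp g) (a + u * v)
  have hf : f * ev F.law ((i1 L).comp g) (∑ i ∈ Finset.range n, a ^ i * (-(u * v)) ^ (n - 1 - i)) =
      Polynomial.C (ev F.law g z ^ n) := by
    have h2 : v ^ n = (1 : Polynomial L) ⊗ₜ[A] (b ^ n) := by
      change ((1 : Polynomial L) ⊗ₜ[A] b) ^ n = _
      rw [Algebra.TensorProduct.tmul_pow, one_pow]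
    have h1 := aux_identity a u v n
    rw [h2] at h1
    have h0 := ev_mul F.mult ((i1 L).comp g) (a + u * v)
      (∑ i ∈ Finset.range n, a ^ i * (-(u * v)) ^ (n - 1 - i))
    rw [← h0]
    refine (congrArg (ev F.law ((i1 L).comp g)) h1).trans ?_
    rw [mem_ker_iff_ev.mp hb]
    have h3 : a ^ n = bc B (i1 L) (z ^ n) := (map_pow _ _ _).symm
    rw [h3, ← ev_map, ev_pow F.mult]
    rfl
  -- `f` is a unit of `L[t]`, hence constant
  have hdeg : f.natDegree = 0 := by
    have h1 : IsUnit (Polynomial.C (ev F.law g z ^ n)) :=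
      Polynomial.isUnit_C.mpr (IsUnit.mk0 _ (pow_ne_zero _ hz))
    rw [← hf] at h1
    exact Polynomial.natDegree_eq_zero_of_isUnit (isUnit_of_mul_isUnit_left h1)
  have hev : ∀ t : L, evp (A := A) L t f = ev F.law g (z + t • (w * (1 ⊗ₜ[A] b))) := by
    intro t
    have h1 : (evp (A := A) L t).comp (i1 L) = AlgHom.id A L := by ext m; simp
    change evp (A := A) L t (ev F.law ((i1 L).comp g) (bc B (i1 L) z +
      ((Polynomial.X : Polynomial L) • bc B (i1 L) w) * ((1 : Polynomial L) ⊗ₜ[A] b))) = _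
    have h2 : (evp (A := A) L t) Polynomial.X = t := by
      change (Polynomial.aeval t) Polynomial.X = t
      rw [Polynomial.aeval_X]
    rw [ev_map, ← AlgHom.comp_assoc, h1, map_add, map_mul, bc_smul, bc_bc, bc_bc, h1, bc_id, bc_id,
      Algebra.TensorProduct.map_tmul, map_one, AlgHom.id_apply, smul_mul_assoc, h2]
    rfl
  have hconst : evp (A := A) L (1 : L) f = evp (A := A) L (0 : L) f := by
    rw [Polynomial.eq_C_of_natDegree_eq_zero hdeg]
    change (Polynomial.aeval (1 : L)) _ = (Polynomial.aeval (0 : L)) _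
    rw [Polynomial.aeval_C, Polynomial.aeval_C]
  rw [hev, hev, one_smul, zero_smul, add_zero] at hconst
  exact hconst

/-- Over a field, elements with a power in the kernel are in the kernel (for values). -/
theorem ev_add_eq {b : B} {n : ℕ} (hb : b ^ n ∈ PolLaw.ker F.law) (x w : L ⊗[A] B) :
    ev F.law g (x + w * (1 ⊗ₜ[A] b)) = ev F.law g x := by
  let xs : Polynomial L ⊗[A] B := bc B (i1 L) x + (Polynomial.X : Polynomial L) ⊗ₜ[A] (1 : B)
  have hq : ev F.law ((i1 L).comp g) xs ≠ 0 := ev_add_X_ne_zero F L g x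
  have hz0 : ev F.law ((i2 L).comp ((i1 L).comp g)) (bc B (i2 L) xs) ≠ 0 := by
    rw [← ev_map]
    intro h
    exact hq (i2_injective (A := A) L (h.trans (map_zero _).symm))
  have hconst := ev_add_eq_of_ne_zero F (FractionRing (Polynomial L)) _ hb (bc B (i2 L) xs)
    (bc B (i2 L) (bc B (i1 L) w)) hz0
  -- back to `L[s]`
  have h1 : bc B (i2 L) xs + bc B (i2 L) (bc B (i1 L) w) * (1 ⊗ₜ[A] b) =
      bc B (i2 L) (xs + bc B (i1 L) w * (1 ⊗ₜ[A] b)) := by
    rw [map_add _ xs, map_mul, Algebra.TensorProduct.map_tmul, map_one, AlgHom.id_apply]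
  rw [h1, ← ev_map, ← ev_map] at hconst
  have h2 := i2_injective (A := A) L hconst
  have h3 := congrArg (evp (A := A) L (0 : L)) h2
  have h4 : (evp (A := A) L (0 : L)).comp (i1 L) = AlgHom.id A L := by ext m; simp
  have h5 : (evp (A := A) L (0 : L)) Polynomial.X = 0 := by
    change (Polynomial.aeval (0 : L)) Polynomial.X = 0
    rw [Polynomial.aeval_X]
  have h6 : bc B (evp (A := A) L (0 : L)) xs = x := by
    change bc B (evp (A := A) L (0 : L)) (bc B (i1 L) x + (Polynomial.X : Polynomial L) ⊗ₜ[A] (1 : B)) = x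
    rw [map_add, bc_bc, h4, bc_id, Algebra.TensorProduct.map_tmul, h5, TensorProduct.zero_tmul,
      add_zero]
  rw [ev_map, ev_map, map_add, map_mul, h6, bc_bc, h4, bc_id, ← AlgHom.comp_assoc, h4,
    Algebra.TensorProduct.map_tmul, map_one, AlgHom.id_apply] at h3
  exact h3

end FieldCase

/-- Membership in the kernel may be tested in fields when the target is reduced. -/
theorem mem_ker_of_field [IsReduced C] (F : B →ₚₗ[A] C) {b : B}
    (h : ∀ (L : Type u) [Field L] [Algebra A L] (g : C →ₐ[A] L) (x w : L ⊗[A] B),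
      ev F g (x + w * (1 ⊗ₜ[A] b)) = ev F g x) : b ∈ PolLaw.ker F := by
  intro S _ _ x w
  obtain ⟨n, ψ, x', w', rfl, rfl⟩ := exists_lift_pair x w
  have h1 : ψ.toLinearMap.rTensor B x' + ψ.toLinearMap.rTensor B w' * (1 ⊗ₜ[A] b) =
      ψ.toLinearMap.rTensor B (x' + w' * (1 ⊗ₜ[A] b)) := by
    simp only [rTensor_eq_bc, map_add, map_mul]
    simp
  rw [h1, ← F.isCompat_apply', ← F.isCompat_apply', toFun'_eq_ev F (x' + _), toFun'_eq_ev F x']
  congr 1
  set P := MvPolynomial (Fin n) A
  let inc : P →ₐ[A] P ⊗[A] C := Algebra.TensorProduct.includeLeft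
  haveI : IsReduced (P ⊗[A] C) := by
    let e : P ⊗[A] C ≃+* MvPolynomial (Fin n) C :=
      ((Algebra.TensorProduct.comm A P C).toRingEquiv).trans
        (MvPolynomial.algebraTensorAlgEquiv (σ := Fin n) A C).toRingEquiv
    exact isReduced_of_injective e e.injective
  rw [← sub_eq_zero]
  apply IsNilpotent.eq_zero
  rw [← mem_nilradical, nilradical_eq_sInf, Submodule.mem_sInf]
  intro (q : Ideal (P ⊗[A] C)) hq
  haveI : q.IsPrime := hq
  let L := q.ResidueField
  let φ : P ⊗[A] C →ₐ[A] L := IsScalarTower.toAlgHom A (P ⊗[A] C) L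
  have hφ : ∀ z : P ⊗[A] C, φ z = 0 → z ∈ q := by
    intro z hz
    have : z ∈ RingHom.ker (algebraMap (P ⊗[A] C) q.ResidueField) := hz
    rwa [Ideal.ker_algebraMap_residueField] at this
  apply hφ
  rw [map_sub, sub_eq_zero, ev_bc, ev_bc]
  have h2 := h L (φ.comp Algebra.TensorProduct.includeRight)
    (φ.toLinearMap.rTensor B (inc.toLinearMap.rTensor B x'))
    (φ.toLinearMap.rTensor B (inc.toLinearMap.rTensor B w'))
  refine Eq.trans ?_ h2
  congr 1
  simp only [rTensor_eq_bc, map_add, map_mul]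
  congr 2
  rw [Algebra.TensorProduct.map_tmul, Algebra.TensorProduct.map_tmul, map_one, map_one]
  rfl

theorem isReduced_image [IsReduced C] {d : ℕ} (F : PolLaw.MulLaw A B C d) :
    IsReduced (PolLaw.image F.law) := by
  refine ⟨fun y => ?_⟩
  rintro ⟨n, hn⟩
  obtain ⟨b, rfl⟩ := Ideal.Quotient.mk_surjective y
  rw [← map_pow] at hn
  have hb : b ^ n ∈ PolLaw.ker F.law := Ideal.Quotient.eq_zero_iff_mem.mp hn
  apply Ideal.Quotient.eq_zero_iff_mem.mpr
  exact mem_ker_of_field F.law fun L _ _ g x w => ev_add_eq F L g hb x w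

end K756.Reduced
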