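import Groth.Prelude.Def_PolLaw
import Mathlib.Algebra.CharP.Lemmas
import Mathlib.Algebra.CharP.Algebra
import Mathlib.RingTheory.MvPolynomial.Basic
import Mathlib.RingTheory.AdjoinRoot
import Mathlib.RingTheory.Ideal.Quotient.Operations

/-!
The kernel of the `p`-th power law in characteristic `p`.
-/

set_option autoImplicit false
set_option linter.style.haveILetI false
set_option linter.unusedSectionVars false

universe u

open scoped TensorProduct

namespace K756.PowLaw

theorem add_pow_p {A : Type u} [CommRing A] (p : ℕ) [Fact p.Prime] (hA : (p : A) = 0) (S : Type u)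
    [CommSemiring S] [Algebra A S] {B : Type u} [CommRing B] [Algebra A B] (x y : S ⊗[A] B) :
    (x + y) ^ p = x ^ p + y ^ p := by
  cases subsingleton_or_nontrivial (S ⊗[A] B) with
  | inl h => exact Subsingleton.elim _ _
  | inr h =>
    haveI : CharP (S ⊗[A] B) p := by
      have hp : (p : S ⊗[A] B) = 0 := by
        have := congrArg (algebraMap A (S ⊗[A] B)) hA
        rwa [map_natCast, map_zero] at this
      obtain ⟨q, hq⟩ := CharP.exists (S ⊗[A] B)
      have h1 : q ∣ p := (CharP.cast_eq_zero_iff (S ⊗[A] B) q p).mp hp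
      rcases (Nat.dvd_prime (Fact.out : p.Prime)).mp h1 with rfl | rfl
      · exact absurd (CharP.false_of_nontrivial_of_char_one (R := S ⊗[A] B)) id
      · exact hq
    exact add_pow_char _ _ p

/-- The kernel of the `p`-th power law `A → A` in characteristic `p`. -/
theorem mem_ker_pow {A : Type u} [CommRing A] (p : ℕ) [Fact p.Prime] (hA : (p : A) = 0) (b : A) :
    b ∈ PolLaw.ker (PolLaw.MulLaw.pow A A p).law ↔ b ^ p = 0 := by
  constructor
  · intro hb
    have h := hb A 0 1
    change (0 + 1 * (1 : A) ⊗ₜ[A] b) ^ p = (0 : A ⊗[A] A) ^ p at h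
    rw [zero_add, one_mul, zero_pow (Fact.out : p.Prime).ne_zero,
      Algebra.TensorProduct.tmul_pow, one_pow] at h
    have h2 := congrArg (TensorProduct.lid A A) h
    rwa [TensorProduct.lid_tmul, map_zero, one_smul] at h2
  · intro hb S _ _ x w
    change (x + w * (1 : S) ⊗ₜ[A] b) ^ p = x ^ p
    rw [add_pow_p p hA, mul_pow, Algebra.TensorProduct.tmul_pow, hb, TensorProduct.tmul_zero,
      mul_zero, add_zero]

section

variable {k : Type u} [Field k] (p : ℕ) [Fact p.Prime] [CharP k p]

variable (k) in
noncomputable abbrev I : Ideal (MvPolynomial ℕ k) :=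
  Ideal.span (Set.range fun i : ℕ => (MvPolynomial.X i : MvPolynomial ℕ k) ^ p)

variable (k) in
abbrev Q : Type u := MvPolynomial ℕ k ⧸ I k p

variable (k) in
noncomputable abbrev J : Ideal (Q k p) :=
  (Ideal.span (Set.range fun i : ℕ => (MvPolynomial.X i : MvPolynomial ℕ k))).map
        (Ideal.Quotient.mk (I k p))

theorem p_eq_zero : ((p : ℕ) : Q k p) = 0 := by
  have h : ((p : ℕ) : k) = 0 := CharP.cast_eq_zero k p
  have := congrArg (algebraMap k (Q k p)) h
  rwa [map_natCast, map_zero] at this

/-- evaluation of the constant term. -/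
noncomputable def aug : Q k p →+* k :=
  Ideal.Quotient.lift (I k p) (MvPolynomial.constantCoeff) (by
    intro a ha
    have h : I k p ≤ RingHom.ker (MvPolynomial.constantCoeff : MvPolynomial ℕ k →+* k) := by
      rw [Ideal.span_le]
      rintro _ ⟨i, rfl⟩
      simp [RingHom.mem_ker, (Fact.out : p.Prime).ne_zero]
    exact h ha)

theorem aug_mk (f : MvPolynomial ℕ k) : aug p (Ideal.Quotient.mk (I k p) f) =
    MvPolynomial.constantCoeff f := rfl

theorem mem_J_iff (b : Q k p) : b ∈ J k p ↔ aug p b = 0 := by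
  obtain ⟨f, rfl⟩ := Ideal.Quotient.mk_surjective b
  rw [aug_mk]
  constructor
  · intro h
    have h1 : J k p ≤ RingHom.ker (aug (k := k) p) := by
      rw [Ideal.map_le_iff_le_comap, Ideal.span_le]
      rintro _ ⟨i, rfl⟩
      change aug p (Ideal.Quotient.mk (I k p) (MvPolynomial.X i)) = 0
      rw [aug_mk]; simp
    have h2 := h1 h
    rw [RingHom.mem_ker, aug_mk] at h2
    exact h2
  · intro h
    apply Ideal.mem_map_of_mem
    -- f is in the ideal generated by the variables
    have h1 : f = f - MvPolynomial.C (MvPolynomial.constantCoeff f) := by rw [h]; simp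
    rw [h1]
    generalize f = g
    clear h h1
    induction g using MvPolynomial.induction_on with
    | C a => simp
    | add p q hp hq =>
      have : p + q - MvPolynomial.C (MvPolynomial.constantCoeff (p + q)) =
        (p - MvPolynomial.C (MvPolynomial.constantCoeff p)) +
          (q - MvPolynomial.C (MvPolynomial.constantCoeff q)) := by
        rw [map_add, map_add]; ring
      rw [this]
      exact add_mem hp hq
    | mul_X p i _ =>
      have : p * MvPolynomial.X i - MvPolynomial.C (MvPolynomial.constantCoeff (p * MvPolynomial.X i)) =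
        p * MvPolynomial.X i := by simp
      rw [this]
      exact Ideal.mul_mem_left _ _ (Ideal.subset_span ⟨i, rfl⟩)

theorem pow_eq_zero_iff_mem (b : Q k p) : b ^ p = 0 ↔ b ∈ J k p := by
  have hp0 : p ≠ 0 := (Fact.out : p.Prime).ne_zero
  constructor
  · intro h
    rw [mem_J_iff]
    have := congrArg (aug p) h
    rw [map_pow, map_zero] at this
    exact (pow_eq_zero_iff hp0).mp this
  · intro h
    obtain ⟨f, rfl⟩ := Ideal.Quotient.mk_surjective b
    rw [mem_J_iff, aug_mk] at h
    haveI : CharP (Q k p) p := by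
      haveI : Nontrivial (Q k p) := RingHom.domain_nontrivial (aug (k := k) p)
      exact charP_of_injective_algebraMap (algebraMap k (Q k p)).injective p
    have key : ∀ g : MvPolynomial ℕ k, (Ideal.Quotient.mk (I k p) g) ^ p =
        Ideal.Quotient.mk (I k p) (MvPolynomial.C (MvPolynomial.constantCoeff g ^ p)) := by
      intro g
      induction g using MvPolynomial.induction_on with
      | C a => rw [← map_pow]; simp
      | add g₁ g₂ h₁ h₂ =>
        haveI : CharP k p := inferInstance
        rw [map_add, add_pow_char, h₁, h₂, map_add, add_pow_char _ _ p, map_add, map_add]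
      | mul_X g i _ =>
        have h3 : Ideal.Quotient.mk (I k p) ((MvPolynomial.X i : MvPolynomial ℕ k) ^ p) = 0 :=
          Ideal.Quotient.eq_zero_iff_mem.mpr (Ideal.subset_span ⟨i, rfl⟩)
        rw [map_mul, mul_pow, ← map_pow (Ideal.Quotient.mk (I k p)) (MvPolynomial.X i), h3, mul_zero]
        simp [hp0]
    rw [key, h, zero_pow hp0]
    simp

/-- detection of the variable `t_n` modulo the others. -/
theorem X_not_mem (n : ℕ) : Ideal.Quotient.mk (I k p) (MvPolynomial.X n) ∉
    Ideal.span (Set.range fun i : Fin n => Ideal.Quotient.mk (I k p) (MvPolynomial.X (i : ℕ))) := by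
  intro h
  let R := AdjoinRoot ((Polynomial.X : Polynomial k) ^ p)
  have hroot : (AdjoinRoot.root ((Polynomial.X : Polynomial k) ^ p)) ^ p = 0 := by
    have h1 := AdjoinRoot.eval₂_root ((Polynomial.X : Polynomial k) ^ p)
    rwa [Polynomial.eval₂_X_pow] at h1
  let f : MvPolynomial ℕ k →+* R := (MvPolynomial.aeval (R := k)
    (fun i : ℕ => if i = n then AdjoinRoot.root ((Polynomial.X : Polynomial k) ^ p) else (0 : R))).toRingHom
  have hf : ∀ i, f (MvPolynomial.X i) = if i = n then AdjoinRoot.root ((Polynomial.X : Polynomial k) ^ p) else (0 : R) := by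
    intro i; simp [f]
  let g : Q k p →+* R := Ideal.Quotient.lift (I k p) f (by
    intro a ha
    have h : I k p ≤ RingHom.ker f := by
      rw [Ideal.span_le]
      rintro _ ⟨i, rfl⟩
      change f (_ ^ p) = 0
      rw [map_pow, hf]
      split_ifs
      · exact hroot
      · exact zero_pow (Fact.out : p.Prime).ne_zero
    exact h ha)
  have hg : ∀ i, g (Ideal.Quotient.mk (I k p) (MvPolynomial.X i)) = if i = n then AdjoinRoot.root ((Polynomial.X : Polynomial k) ^ p) else (0 : R) := hf
  have h1 : Ideal.span (Set.range fun i : Fin n => Ideal.Quotient.mk (I k p) (MvPolynomial.X (i : ℕ))) ≤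
      RingHom.ker g := by
    rw [Ideal.span_le]
    rintro _ ⟨i, rfl⟩
    change g _ = 0
    rw [hg, if_neg i.2.ne]
  have h2 := h1 h
  rw [RingHom.mem_ker, hg, if_pos rfl] at h2
  have h3 : AdjoinRoot.mk ((Polynomial.X : Polynomial k) ^ p) Polynomial.X = 0 := by
    rw [AdjoinRoot.mk_X]; exact h2
  rw [AdjoinRoot.mk_eq_zero] at h3
  have h4 := Polynomial.natDegree_le_of_dvd h3 Polynomial.X_ne_zero
  rw [Polynomial.natDegree_X_pow, Polynomial.natDegree_X] at h4
  have := (Fact.out : p.Prime).two_le
  omega

theorem not_fg : ¬ (J k p).FG := by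
  intro h
  let K : ℕ → Ideal (Q k p) := fun n =>
    Ideal.span (Set.range fun i : Fin n => Ideal.Quotient.mk (I k p) (MvPolynomial.X (i : ℕ)))
  have hmono : Monotone K := by
    intro m n hmn
    apply Ideal.span_mono
    rintro _ ⟨i, rfl⟩
    exact ⟨⟨i, i.2.trans_le hmn⟩, rfl⟩
  have hJ : J k p = ⨆ n, K n := by
    apply le_antisymm
    · rw [Ideal.map_le_iff_le_comap, Ideal.span_le]
      rintro _ ⟨i, rfl⟩
      change Ideal.Quotient.mk (I k p) (MvPolynomial.X i) ∈ ⨆ n, K n
      exact Submodule.mem_iSup_of_mem (i + 1) (Ideal.subset_span ⟨⟨i, Nat.lt_succ_self i⟩, rfl⟩)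
    · refine iSup_le fun n => ?_
      rw [Ideal.span_le]
      rintro _ ⟨i, rfl⟩
      exact Ideal.mem_map_of_mem _ (Ideal.subset_span ⟨i, rfl⟩)
  obtain ⟨s, hs⟩ := h
  have h1 : ∀ t : Finset (Q k p), (t : Set (Q k p)) ⊆ J k p → ∃ n, (t : Set (Q k p)) ⊆ K n := by
    classical
    intro t
    induction t using Finset.induction_on with
    | empty => intro _; exact ⟨0, by simp⟩
    | insert a t _ ih =>
      intro hat
      obtain ⟨n, hn⟩ := ih (fun x hx => hat (by simp [Finset.mem_coe.mp hx]))
      have ha : a ∈ J k p := hat (by simp)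
      rw [hJ, Submodule.mem_iSup_of_directed _ hmono.directed_le] at ha
      obtain ⟨m, hm⟩ := ha
      refine ⟨max m n, ?_⟩
      intro x hx
      rw [Finset.coe_insert, Set.mem_insert_iff] at hx
      rcases hx with rfl | hx
      · exact hmono (le_max_left _ _) hm
      · exact hmono (le_max_right _ _) (hn hx)
  obtain ⟨n, hn⟩ := h1 s (by rw [← hs]; exact Submodule.subset_span)
  have h2 : J k p ≤ K n := by rw [← hs]; exact Ideal.span_le.mpr hn
  exact X_not_mem p n (h2 (Ideal.mem_map_of_mem _ (Ideal.subset_span ⟨n, rfl⟩)))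

theorem main : PolLaw.ker (PolLaw.MulLaw.pow (Q k p) (Q k p) p).law = J k p ∧
    ¬ (PolLaw.ker (PolLaw.MulLaw.pow (Q k p) (Q k p) p).law).FG := by
  have h : PolLaw.ker (PolLaw.MulLaw.pow (Q k p) (Q k p) p).law = J k p := by
    ext b
    rw [mem_ker_pow p (p_eq_zero p), pow_eq_zero_iff_mem]
  refine ⟨h, ?_⟩
  rw [h]
  exact not_fg p

end

end K756.PowLaw
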