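import Groth.Prelude.Def_PolLaw
import Groth.Prelude.Def_FrobAlg
import Mathlib.RingTheory.MvPolynomial.Basic
import Mathlib.RingTheory.Localization.FractionRing
import Mathlib.RingTheory.Localization.Integer
import Mathlib.Algebra.Field.ZMod
import Mathlib.Algebra.CharP.Algebra
import Mathlib.Algebra.CharP.Lemmas
import Mathlib.RingTheory.Finiteness.Defs
import Mathlib.Algebra.MvPolynomial.PDeriv
import Mathlib.LinearAlgebra.Dimension.Finite

/-!
The `p`-th power law from `K^{1/p}` to `K`.
-/

set_option autoImplicit false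
set_option linter.style.haveILetI false
set_option linter.unusedSectionVars false

universe u

open scoped TensorProduct

namespace K756.FrobLaw

section Law

variable (p : ℕ) [Fact p.Prime] (K : Type u) [CommRing K] [CharP K p]

theorem add_pow_p (S : Type u) [CommSemiring S] [Algebra K S] (x y : S) :
    (x + y) ^ p = x ^ p + y ^ p := by
  cases subsingleton_or_nontrivial S with
  | inl h => exact Subsingleton.elim _ _
  | inr h =>
    haveI : CharP S p := by
      have hp : (p : S) = 0 := by
        have := congrArg (algebraMap K S) (CharP.cast_eq_zero K p)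
        rwa [map_natCast, map_zero] at this
      obtain ⟨q, hq⟩ := CharP.exists S
      have h1 : q ∣ p := (CharP.cast_eq_zero_iff S q p).mp hp
      rcases (Nat.dvd_prime (Fact.out : p.Prime)).mp h1 with rfl | rfl
      · exfalso
        have h2 : ((1 : ℕ) : S) = 0 := (CharP.cast_eq_zero_iff S 1 1).mpr dvd_rfl
        rw [Nat.cast_one] at h2
        exact one_ne_zero h2
      · exact hq
    exact add_pow_char _ _ p

theorem zero_pow_p (S : Type u) [CommSemiring S] : (0 : S) ^ p = 0 :=
  zero_pow (Fact.out : p.Prime).ne_zero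

/-- the second argument. -/
noncomputable def frobInner (S : Type u) [CommSemiring S] [Algebra K S] (s : S) :
    FrobAlg.Twist p K →+ S ⊗[K] K where
  toFun a := (s ^ p) ⊗ₜ[K] ((FrobAlg.toTwist p K).symm a)
  map_zero' := by rw [map_zero, TensorProduct.tmul_zero]
  map_add' a b := by rw [map_add, TensorProduct.tmul_add]

theorem frobInner_apply (S : Type u) [CommSemiring S] [Algebra K S] (s : S) (a : FrobAlg.Twist p K) :
    frobInner p K S s a = (s ^ p) ⊗ₜ[K] ((FrobAlg.toTwist p K).symm a) := rfl

/-- The additive map `s ⊗ a ↦ s ^ p ⊗ a`. -/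
noncomputable def frobAdd (S : Type u) [CommSemiring S] [Algebra K S] :
    S ⊗[K] FrobAlg.Twist p K →+ S ⊗[K] K :=
  TensorProduct.liftAddHom
    { toFun := frobInner p K S
      map_zero' := by
        ext a
        rw [frobInner_apply, zero_pow_p, TensorProduct.zero_tmul]; rfl
      map_add' := fun s s' => by
        ext a
        rw [AddMonoidHom.add_apply, frobInner_apply, frobInner_apply, frobInner_apply,
          add_pow_p p K, TensorProduct.add_tmul] }
    (fun c s a => by
      change frobInner p K S (c • s) a = frobInner p K S s (c • a)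
      rw [frobInner_apply, frobInner_apply, smul_pow, ← TensorProduct.smul_tmul',
        ← TensorProduct.tmul_smul]
      congr 1)

theorem frobAdd_tmul (S : Type u) [CommSemiring S] [Algebra K S] (s : S) (a : FrobAlg.Twist p K) :
    frobAdd p K S (s ⊗ₜ[K] a) = (s ^ p) ⊗ₜ[K] ((FrobAlg.toTwist p K).symm a) := by
  rw [frobAdd, TensorProduct.liftAddHom_tmul]
  rfl

/-- The law. -/
noncomputable def frobLaw : FrobAlg.Twist p K →ₚₗ[K] K where
  toFun' S _ _ := frobAdd p K S
  isCompat' {S} _ _ {S'} _ _ φ := by
    funext x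
    change φ.toLinearMap.rTensor K (frobAdd p K S x) =
      frobAdd p K S' (φ.toLinearMap.rTensor (FrobAlg.Twist p K) x)
    induction x using TensorProduct.induction_on with
    | zero => simp
    | tmul s a => simp [frobAdd_tmul]
    | add x y hx hy => rw [map_add, map_add, map_add, map_add, hx, hy]

theorem frobLaw_homog : PolLaw.IsHomog (frobLaw p K) p := by
  intro S _ _ s x
  change frobAdd p K S (s • x) = s ^ p • frobAdd p K S x
  induction x using TensorProduct.induction_on with
  | zero => simp
  | tmul t a =>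
    rw [TensorProduct.smul_tmul', frobAdd_tmul, frobAdd_tmul, TensorProduct.smul_tmul', smul_eq_mul,
      smul_eq_mul, mul_pow]
  | add x y hx hy => rw [smul_add, map_add, map_add, smul_add, hx, hy]

theorem frobLaw_mult : PolLaw.IsMult (frobLaw p K) := by
  intro S _ _
  refine ⟨?_, fun x y => ?_⟩
  · change frobAdd p K S 1 = 1
    rw [Algebra.TensorProduct.one_def, frobAdd_tmul, one_pow, map_one]
    rfl
  · change frobAdd p K S (x * y) = frobAdd p K S x * frobAdd p K S y
    induction x using TensorProduct.induction_on with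
    | zero => simp
    | add x x' hx hx' => rw [add_mul, map_add, map_add, add_mul, hx, hx']
    | tmul s a =>
      induction y using TensorProduct.induction_on with
      | zero => simp
      | add x x' hx hx' => rw [mul_add, map_add, map_add, mul_add, hx, hx']
      | tmul t b =>
        rw [Algebra.TensorProduct.tmul_mul_tmul, frobAdd_tmul, frobAdd_tmul, frobAdd_tmul,
          Algebra.TensorProduct.tmul_mul_tmul, mul_pow, map_mul]

theorem exists_law : ∃ F : PolLaw.MulLaw K (FrobAlg.Twist p K) K p,
    ∀ (S : Type u) [CommSemiring S] [Algebra K S] (s : S) (a : FrobAlg.Twist p K),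
      F.law.toFun' S (s ⊗ₜ[K] a) = (s ^ p) ⊗ₜ[K] (FrobAlg.toTwist p K).symm a :=
  ⟨⟨frobLaw p K, frobLaw_homog p K, frobLaw_mult p K⟩, fun S _ _ s a => frobAdd_tmul p K S s a⟩

theorem ker_eq_bot (F : PolLaw.MulLaw K (FrobAlg.Twist p K) K p)
    (hF : ∀ (S : Type u) [CommSemiring S] [Algebra K S] (s : S) (a : FrobAlg.Twist p K),
      F.law.toFun' S (s ⊗ₜ[K] a) = (s ^ p) ⊗ₜ[K] (FrobAlg.toTwist p K).symm a) :
    PolLaw.ker F.law = ⊥ := by
  rw [eq_bot_iff]
  intro b hb
  have h := hb K 0 1
  rw [zero_add, one_mul, hF, one_pow] at h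
  have h0 : F.law.toFun' K (0 : K ⊗[K] FrobAlg.Twist p K) = 0 := by
    have := hF K 0 0
    rwa [TensorProduct.zero_tmul, zero_pow_p, TensorProduct.zero_tmul] at this
  rw [h0] at h
  have h2 := congrArg (TensorProduct.lid K K) h
  rw [TensorProduct.lid_tmul, map_zero, one_smul] at h2
  exact (FrobAlg.toTwist p K).symm.injective (h2.trans (map_zero _).symm)

end Law

section Infinite

variable (p : ℕ) [Fact p.Prime]

abbrev K : Type := FractionRing (MvPolynomial ℕ (ZMod p))

theorem linearIndependent_X :
    LinearIndependent (K p) (fun i : ℕ => FrobAlg.toTwist p (K p)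
      (algebraMap (MvPolynomial ℕ (ZMod p)) (K p) (MvPolynomial.X i))) := by
  classical
  rw [linearIndependent_iff']
  intro s g hg j hj
  obtain ⟨D, hD⟩ := IsLocalization.exist_integer_multiples (nonZeroDivisors (MvPolynomial ℕ (ZMod p))) s g
  choose a ha using hD
  -- the relation in the polynomial ring
  have h1 : ∑ i ∈ s, g i ^ p * algebraMap (MvPolynomial ℕ (ZMod p)) (K p) (MvPolynomial.X i) = 0 := by
    have h2 := congrArg (FrobAlg.toTwist p (K p)).symm hg
    rw [map_sum, map_zero] at h2
    rw [← h2]
    refine Finset.sum_congr rfl fun i _ => ?_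
    rw [Algebra.smul_def, FrobAlg.algebraMap_twist, map_mul, RingEquiv.symm_apply_apply,
      RingEquiv.symm_apply_apply]
  let a' : ℕ → MvPolynomial ℕ (ZMod p) := fun i => if hi : i ∈ s then a i hi else 0
  have ha' : ∀ i ∈ s, algebraMap (MvPolynomial ℕ (ZMod p)) (K p) (a' i) =
      algebraMap (MvPolynomial ℕ (ZMod p)) (K p) (D : MvPolynomial ℕ (ZMod p)) * g i := by
    intro i hi
    have := ha i hi
    simp only [a', dif_pos hi]
    rw [this, Algebra.smul_def]
  have h2 : ∑ i ∈ s, a' i ^ p * MvPolynomial.X i = 0 := by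
    apply IsFractionRing.injective (MvPolynomial ℕ (ZMod p)) (K p)
    rw [map_sum, map_zero]
    have h3 : ∀ i ∈ s, algebraMap (MvPolynomial ℕ (ZMod p)) (K p) (a' i ^ p * MvPolynomial.X i) =
        algebraMap (MvPolynomial ℕ (ZMod p)) (K p) (D : MvPolynomial ℕ (ZMod p)) ^ p *
          (g i ^ p * algebraMap (MvPolynomial ℕ (ZMod p)) (K p) (MvPolynomial.X i)) := by
      intro i hi
      rw [map_mul, map_pow, ha' i hi]
      ring
    rw [Finset.sum_congr rfl h3, ← Finset.mul_sum, h1, mul_zero]
  have h3 := congrArg (MvPolynomial.pderiv j) h2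
  rw [map_sum, map_zero] at h3
  have h4 : ∀ i ∈ s, MvPolynomial.pderiv j (a' i ^ p * MvPolynomial.X i) =
      if i = j then a' i ^ p else 0 := by
    intro i _
    rw [MvPolynomial.pderiv_mul, MvPolynomial.pderiv_pow, MvPolynomial.pderiv_X]
    have : (p : MvPolynomial ℕ (ZMod p)) = 0 := CharP.cast_eq_zero _ p
    rw [this, zero_mul, zero_mul, zero_mul, zero_add]
    split_ifs with h
    · subst h; simp
    · rw [Pi.single_eq_of_ne h, mul_zero]
  rw [Finset.sum_congr rfl h4, Finset.sum_ite_eq' s j, if_pos hj] at h3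
  have h5 : a' j = 0 := (pow_eq_zero_iff (Fact.out : p.Prime).ne_zero).mp h3
  have h6 := ha' j hj
  rw [h5, map_zero] at h6
  rcases mul_eq_zero.mp h6.symm with h7 | h7
  · exfalso
    exact nonZeroDivisors.coe_ne_zero D (IsFractionRing.injective (MvPolynomial ℕ (ZMod p)) (K p)
      (h7.trans (map_zero _).symm))
  · exact h7

theorem not_finite : ¬ Module.Finite (K p) (FrobAlg.Twist p (K p)) := by
  intro h
  have := (linearIndependent_X p).finite
  exact _root_.not_finite ℕ

end Infinite

end K756.FrobLaw
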