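import Groth.Agent.ZeroCyc.K756.Sat

/-!
The base change of a law `B → A` to an `A`-algebra `A'`, as a law over `A'`.
-/

set_option autoImplicit false
set_option linter.style.haveILetI false

universe u

open scoped TensorProduct

namespace K756.BC

open K756.KerBC K756.Sat

variable {A : Type u} [CommRing A] {B : Type u} [CommRing B] [Algebra A B]

/-- The isomorphism `S ⊗[A'] (A' ⊗[A] B) ≃ S ⊗[A] B`. -/
noncomputable abbrev can (A : Type u) [CommRing A] (B : Type u) [CommRing B] [Algebra A B]
    (A' : Type u) [CommRing A'] [Algebra A A']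
    (S : Type u) [CommSemiring S] [Algebra A S] [Algebra A' S] [IsScalarTower A A' S] :
    S ⊗[A'] (A' ⊗[A] B) ≃ₐ[A'] S ⊗[A] B :=
  Algebra.TensorProduct.cancelBaseChange A A' A' S B

theorem can_one_tmul (A' : Type u) [CommRing A'] [Algebra A A']
    (S : Type u) [CommSemiring S] [Algebra A S] [Algebra A' S] [IsScalarTower A A' S]
    (b' : A' ⊗[A] B) :
    can A B A' S ((1 : S) ⊗ₜ[A'] b') = bmap (IsScalarTower.toAlgHom A A' S) B b' := by
  induction b' using TensorProduct.induction_on with
  | zero => simp
  | tmul a b => simp [Algebra.algebraMap_eq_smul_one]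
  | add x y hx hy => rw [TensorProduct.tmul_add, map_add, map_add, hx, hy]

theorem can_smul (A' : Type u) [CommRing A'] [Algebra A A']
    (S : Type u) [CommSemiring S] [Algebra A S] [Algebra A' S] [IsScalarTower A A' S]
    (s : S) (z : S ⊗[A'] (A' ⊗[A] B)) :
    can A B A' S (s • z) = s • can A B A' S z := by
  induction z using TensorProduct.induction_on with
  | zero => simp
  | add x y hx hy => rw [smul_add, map_add, map_add, smul_add, hx, hy]
  | tmul t b' =>
    induction b' using TensorProduct.induction_on with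
    | zero => simp
    | add x y hx hy => rw [TensorProduct.tmul_add, smul_add, map_add, map_add, smul_add, hx, hy]
    | tmul a b => simp [TensorProduct.smul_tmul']

theorem can_bmap (A' : Type u) [CommRing A'] [Algebra A A']
    {S S' : Type u} [CommSemiring S] [Algebra A S] [Algebra A' S] [IsScalarTower A A' S]
    [CommSemiring S'] [Algebra A S'] [Algebra A' S'] [IsScalarTower A A' S']
    (φ : S →ₐ[A'] S') (z : S ⊗[A'] (A' ⊗[A] B)) :
    can A B A' S' (bmap φ (A' ⊗[A] B) z) = bmap (φ.restrictScalars A) B (can A B A' S z) := by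
  induction z using TensorProduct.induction_on with
  | zero => simp
  | add x y hx hy => rw [map_add, map_add, map_add, map_add, hx, hy]
  | tmul t b' =>
    induction b' using TensorProduct.induction_on with
    | zero => simp
    | add x y hx hy => rw [TensorProduct.tmul_add, map_add, map_add, map_add, map_add, hx, hy]
    | tmul a b => simp

/-- The base change of a law with values in the base ring. -/
noncomputable def bcl (F : B →ₚₗ[A] A) (A' : Type u) [CommRing A'] [Algebra A A'] :
    (A' ⊗[A] B) →ₚₗ[A'] A' where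
  toFun' S _ _ := fun x =>
    letI : Algebra A S := ((algebraMap A' S).comp (algebraMap A A')).toAlgebra
    haveI : IsScalarTower A A' S := IsScalarTower.of_algebraMap_eq' rfl
    (val F S (can A B A' S x)) ⊗ₜ[A'] (1 : A')
  isCompat' {S} _ _ {S'} _ _ φ := by
    funext x
    letI i1 : Algebra A S := ((algebraMap A' S).comp (algebraMap A A')).toAlgebra
    letI i2 : Algebra A S' := ((algebraMap A' S').comp (algebraMap A A')).toAlgebra
    haveI i3 : IsScalarTower A A' S := IsScalarTower.of_algebraMap_eq' rfl
    haveI i4 : IsScalarTower A A' S' := IsScalarTower.of_algebraMap_eq' rfl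
    change φ.toLinearMap.rTensor A' ((val F S (can A B A' S x)) ⊗ₜ[A'] (1 : A')) =
      (val F S' (can A B A' S' (φ.toLinearMap.rTensor (A' ⊗[A] B) x))) ⊗ₜ[A'] (1 : A')
    have e : φ.toLinearMap.rTensor (A' ⊗[A] B) x = bmap φ (A' ⊗[A] B) x :=
      (bmap_eq_rTensor φ x).symm
    rw [e, can_bmap, val_bmap, LinearMap.rTensor_tmul]
    rfl

theorem val_bcl (F : B →ₚₗ[A] A) (A' : Type u) [CommRing A'] [Algebra A A']
    (S : Type u) [CommSemiring S] [Algebra A S] [Algebra A' S] [IsScalarTower A A' S]
    (x : S ⊗[A'] (A' ⊗[A] B)) :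
    val (bcl F A') S x = val F S (can A B A' S x) := by
  have h : ‹Algebra A S› = ((algebraMap A' S).comp (algebraMap A A')).toAlgebra := by
    apply Algebra.algebra_ext
    intro r
    exact IsScalarTower.algebraMap_apply A A' S r
  subst h
  exact (TensorProduct.rid_tmul _ _).trans (one_smul _ _)

/-- The kernel of the base-changed law. -/
theorem ker_bcl (F : B →ₚₗ[A] A) (A' : Type u) [CommRing A'] [Algebra A A'] :
    PolLaw.ker (bcl F A') = PolLaw.kerBC F A' := by
  ext b'
  constructor
  · intro h R _ _ _ _ x w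
    have h1 := h R ((can A B A' R).symm x) ((can A B A' R).symm w)
    rw [← val_inj, val_bcl, val_bcl, map_add, map_mul, can_one_tmul] at h1
    simp only [AlgEquiv.apply_symm_apply] at h1
    rw [val_inj] at h1
    exact h1
  · intro h S _ _ x w
    letI i1 : Algebra A S := ((algebraMap A' S).comp (algebraMap A A')).toAlgebra
    haveI i3 : IsScalarTower A A' S := IsScalarTower.of_algebraMap_eq' rfl
    rw [← val_inj, val_bcl, val_bcl, map_add, map_mul, can_one_tmul, val_inj]
    exact h S _ _

theorem val_mul (F : B →ₚₗ[A] A) (hF : PolLaw.IsMult F) (S : Type u) [CommSemiring S]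
    [Algebra A S] (x y : S ⊗[A] B) : val F S (x * y) = val F S x * val F S y := by
  unfold val
  rw [(hF S).2]
  exact map_mul (Algebra.TensorProduct.rid A A S) _ _

theorem val_one (F : B →ₚₗ[A] A) (hF : PolLaw.IsMult F) (S : Type u) [CommSemiring S]
    [Algebra A S] : val F S (1 : S ⊗[A] B) = 1 := by
  unfold val
  rw [(hF S).1]
  exact map_one (Algebra.TensorProduct.rid A A S)

theorem val_smul (F : B →ₚₗ[A] A) {d : ℕ} (hF : PolLaw.IsHomog F d) (S : Type u)
    [CommSemiring S] [Algebra A S] (s : S) (x : S ⊗[A] B) :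
    val F S (s • x) = s ^ d * val F S x := by
  unfold val
  rw [hF S]
  generalize F.toFun' S x = z
  induction z using TensorProduct.induction_on with
  | zero => simp
  | tmul a b => simp [TensorProduct.smul_tmul']
  | add a b ha hb => simp only [map_add, smul_add, ha, hb, mul_add]

theorem toFun'_eq_val_tmul (F : B →ₚₗ[A] A) (S : Type u) [CommSemiring S] [Algebra A S]
    (x : S ⊗[A] B) : F.toFun' S x = val F S x ⊗ₜ[A] (1 : A) := by
  apply (TensorProduct.rid A S).injective
  rw [TensorProduct.rid_tmul, one_smul]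
  rfl

theorem isMult_of_val (F : B →ₚₗ[A] A)
    (h1 : ∀ (S : Type u) [CommSemiring S] [Algebra A S], val F S (1 : S ⊗[A] B) = 1)
    (h2 : ∀ (S : Type u) [CommSemiring S] [Algebra A S] (x y : S ⊗[A] B),
      val F S (x * y) = val F S x * val F S y) : PolLaw.IsMult F := by
  intro S _ _
  refine ⟨?_, fun x y => ?_⟩
  · rw [toFun'_eq_val_tmul, h1]; rfl
  · rw [toFun'_eq_val_tmul, toFun'_eq_val_tmul, toFun'_eq_val_tmul, h2,
      Algebra.TensorProduct.tmul_mul_tmul, one_mul]

theorem isHomog_of_val (F : B →ₚₗ[A] A) (d : ℕ)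
    (h : ∀ (S : Type u) [CommSemiring S] [Algebra A S] (s : S) (x : S ⊗[A] B),
      val F S (s • x) = s ^ d * val F S x) : PolLaw.IsHomog F d := by
  intro S _ _ s x
  rw [toFun'_eq_val_tmul, toFun'_eq_val_tmul, h, TensorProduct.smul_tmul', smul_eq_mul]

/-- The base change of a multiplicative law. -/
noncomputable def bcm {d : ℕ} (F : PolLaw.MulLaw A B A d) (A' : Type u) [CommRing A']
    [Algebra A A'] : PolLaw.MulLaw A' (A' ⊗[A] B) A' d where
  law := bcl F.law A'
  homog := isHomog_of_val _ d fun S _ _ s x => by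
    letI i1 : Algebra A S := ((algebraMap A' S).comp (algebraMap A A')).toAlgebra
    haveI i3 : IsScalarTower A A' S := IsScalarTower.of_algebraMap_eq' rfl
    rw [val_bcl, val_bcl, can_smul, val_smul F.law F.homog]
  mult := isMult_of_val _ (fun S _ _ => by
    letI i1 : Algebra A S := ((algebraMap A' S).comp (algebraMap A A')).toAlgebra
    haveI i3 : IsScalarTower A A' S := IsScalarTower.of_algebraMap_eq' rfl
    rw [val_bcl, map_one, val_one F.law F.mult]) (fun S _ _ x y => by
    letI i1 : Algebra A S := ((algebraMap A' S).comp (algebraMap A A')).toAlgebra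
    haveI i3 : IsScalarTower A A' S := IsScalarTower.of_algebraMap_eq' rfl
    rw [val_bcl, val_bcl, val_bcl, map_mul, val_mul F.law F.mult])

theorem bcm_law {d : ℕ} (F : PolLaw.MulLaw A B A d) (A' : Type u) [CommRing A']
    [Algebra A A'] : (bcm F A').law = bcl F.law A' := rfl

theorem ker_bcm {d : ℕ} (F : PolLaw.MulLaw A B A d) (A' : Type u) [CommRing A']
    [Algebra A A'] : PolLaw.ker (bcm F A').law = PolLaw.kerBC F.law A' := ker_bcl F.law A'

end K756.BC
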