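import Groth.Prelude.Def_PolLaw
import Mathlib.RingTheory.TensorProduct.Maps
import Mathlib.Algebra.MvPolynomial.Basic
import Mathlib.Algebra.MvPolynomial.Eval
import Mathlib.LinearAlgebra.TensorProduct.RightExactness

/-!
Kernels of base changes of polynomial laws: first properties.
-/

set_option autoImplicit false

universe u

open scoped TensorProduct

namespace K756.KerBC

section Basic

variable {A : Type u} [CommRing A] {B C : Type u} [CommRing B] [Algebra A B] [CommRing C]
  [Algebra A C]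

/-- The map `S ⊗ B → S' ⊗ B` induced by an algebra map, as an algebra map. -/
noncomputable abbrev bmap {S S' : Type u} [CommSemiring S] [Algebra A S] [CommSemiring S']
    [Algebra A S'] (φ : S →ₐ[A] S') (B : Type u) [CommRing B] [Algebra A B] :
    S ⊗[A] B →ₐ[A] S' ⊗[A] B :=
  Algebra.TensorProduct.map φ (AlgHom.id A B)

theorem bmap_eq_rTensor {S S' : Type u} [CommSemiring S] [Algebra A S] [CommSemiring S']
    [Algebra A S'] (φ : S →ₐ[A] S') (x : S ⊗[A] B) :
    bmap φ B x = φ.toLinearMap.rTensor B x := by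
  induction x using TensorProduct.induction_on with
  | zero => simp
  | tmul s b => rfl
  | add x y hx hy => simp only [map_add, hx, hy]

/-- Naturality of a polynomial law, with algebra maps. -/
theorem toFun'_bmap (F : B →ₚₗ[A] C) {S S' : Type u} [CommSemiring S] [Algebra A S]
    [CommSemiring S'] [Algebra A S'] (φ : S →ₐ[A] S') (x : S ⊗[A] B) :
    F.toFun' S' (bmap φ B x) = bmap φ C (F.toFun' S x) := by
  rw [bmap_eq_rTensor, bmap_eq_rTensor, PolynomialLaw.isCompat_apply']

theorem bmap_surjective {S S' : Type u} [CommSemiring S] [Algebra A S] [CommSemiring S']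
    [Algebra A S'] {φ : S →ₐ[A] S'} (hφ : Function.Surjective φ) :
    Function.Surjective (bmap φ B) := by
  intro y
  obtain ⟨x, hx⟩ := LinearMap.rTensor_surjective B (g := φ.toLinearMap) hφ y
  exact ⟨x, by rw [bmap_eq_rTensor, hx]⟩

theorem bmap_bmap {S S' S'' : Type u} [CommSemiring S] [Algebra A S] [CommSemiring S']
    [Algebra A S'] [CommSemiring S''] [Algebra A S''] (φ : S →ₐ[A] S') (ψ : S' →ₐ[A] S'')
    (x : S ⊗[A] B) : bmap ψ B (bmap φ B x) = bmap (ψ.comp φ) B x := by
  induction x using TensorProduct.induction_on with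
  | zero => simp
  | tmul s b => simp
  | add x y hx hy => simp only [map_add, hx, hy]

theorem mem_ker_iff (F : B →ₚₗ[A] C) (b : B) :
    b ∈ PolLaw.ker F ↔ ∀ (S : Type u) [CommSemiring S] [Algebra A S] (x w : S ⊗[A] B),
      F.toFun' S (x + w * (1 ⊗ₜ[A] b)) = F.toFun' S x := Iff.rfl

theorem mem_kerBC_iff (F : B →ₚₗ[A] C) (A' : Type u) [CommRing A'] [Algebra A A']
    (b' : A' ⊗[A] B) :
    b' ∈ PolLaw.kerBC F A' ↔ ∀ (R : Type u) [CommSemiring R] [Algebra A R] [Algebra A' R]
      [IsScalarTower A A' R] (x w : R ⊗[A] B),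
      F.toFun' R (x + w * bmap (IsScalarTower.toAlgHom A A' R) B b') = F.toFun' R x := Iff.rfl

/-- Membership in `kerBC F A'` can be tested over the polynomial rings over `A'`. -/
theorem mem_kerBC_iff_mv (F : B →ₚₗ[A] C) (A' : Type u) [CommRing A'] [Algebra A A']
    (b' : A' ⊗[A] B) :
    b' ∈ PolLaw.kerBC F A' ↔ ∀ (σ : Type u) (x w : MvPolynomial σ A' ⊗[A] B),
      F.toFun' (MvPolynomial σ A')
        (x + w * bmap (IsScalarTower.toAlgHom A A' (MvPolynomial σ A')) B b') =
      F.toFun' (MvPolynomial σ A') x := by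
  refine ⟨fun h σ x w => h (MvPolynomial σ A') x w, fun h => ?_⟩
  intro R _ _ _ _ x w
  let ψ : MvPolynomial R A' →ₐ[A] R :=
    (MvPolynomial.aeval (R := A') (fun r : R => r)).restrictScalars A
  have hψ : Function.Surjective ψ := fun r => ⟨MvPolynomial.X r, by simp [ψ]⟩
  obtain ⟨x', rfl⟩ := bmap_surjective (B := B) hψ x
  obtain ⟨w', rfl⟩ := bmap_surjective (B := B) hψ w
  have hc : IsScalarTower.toAlgHom A A' R =
      ψ.comp (IsScalarTower.toAlgHom A A' (MvPolynomial R A')) := by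
    ext a
    simp [ψ]
  have hb : Algebra.TensorProduct.map (IsScalarTower.toAlgHom A A' R) (AlgHom.id A B) b' =
      bmap ψ B (bmap (IsScalarTower.toAlgHom A A' (MvPolynomial R A')) B b') := by
    rw [bmap_bmap, ← hc]
  rw [hb, ← map_mul, ← map_add, toFun'_bmap, toFun'_bmap, h]

/-- Membership in `ker F` can be tested over the polynomial rings over `A`. -/
theorem mem_ker_iff_mv (F : B →ₚₗ[A] C) (b : B) :
    b ∈ PolLaw.ker F ↔ ∀ (σ : Type u) (x w : MvPolynomial σ A ⊗[A] B),
      F.toFun' (MvPolynomial σ A) (x + w * (1 ⊗ₜ[A] b)) = F.toFun' (MvPolynomial σ A) x := by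
  refine ⟨fun h σ x w => h (MvPolynomial σ A) x w, fun h => ?_⟩
  intro R _ _ x w
  let ψ : MvPolynomial R A →ₐ[A] R := MvPolynomial.aeval (R := A) (fun r : R => r)
  have hψ : Function.Surjective ψ := fun r => ⟨MvPolynomial.X r, by simp [ψ]⟩
  obtain ⟨x', rfl⟩ := bmap_surjective (B := B) hψ x
  obtain ⟨w', rfl⟩ := bmap_surjective (B := B) hψ w
  have hb : (1 : R) ⊗ₜ[A] b = bmap ψ B (1 ⊗ₜ[A] b) := by simp
  rw [hb, ← map_mul, ← map_add, toFun'_bmap, toFun'_bmap, h]

/-- Functoriality of `kerBC` in the base. -/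
theorem bmap_mem_kerBC (F : B →ₚₗ[A] C) {A' A'' : Type u} [CommRing A'] [Algebra A A']
    [CommRing A''] [Algebra A A''] (φ : A' →ₐ[A] A'') {b' : A' ⊗[A] B}
    (hb : b' ∈ PolLaw.kerBC F A') : bmap φ B b' ∈ PolLaw.kerBC F A'' := by
  intro R _ _ _ _ x w
  let : Algebra A' R := ((IsScalarTower.toAlgHom A A'' R).comp φ).toRingHom.toAlgebra
  have : IsScalarTower A A' R := IsScalarTower.of_algebraMap_eq fun a => by
    rw [RingHom.algebraMap_toAlgebra]
    exact (((IsScalarTower.toAlgHom A A'' R).comp φ).commutes a).symm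
  have h := hb R x w
  have hc : IsScalarTower.toAlgHom A A' R = (IsScalarTower.toAlgHom A A'' R).comp φ := by
    ext a; rfl
  rw [hc] at h
  have h2 : Algebra.TensorProduct.map (IsScalarTower.toAlgHom A A'' R) (AlgHom.id A B)
      (bmap φ B b') = bmap ((IsScalarTower.toAlgHom A A'' R).comp φ) B b' := bmap_bmap _ _ _
  rw [h2]
  exact h

/-- `1 ⊗ b` is in `kerBC F A'` when `b` is in `ker F`. -/
theorem one_tmul_mem_kerBC (F : B →ₚₗ[A] C) (A' : Type u) [CommRing A'] [Algebra A A'] {b : B}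
    (hb : b ∈ PolLaw.ker F) : (1 : A') ⊗ₜ[A] b ∈ PolLaw.kerBC F A' := by
  intro R _ _ _ _ x w
  rw [Algebra.TensorProduct.map_tmul, map_one, AlgHom.id_apply]
  exact hb R x w

/-- The extension of `ker F` is contained in `kerBC F A'`. -/
theorem map_ker_le_kerBC (F : B →ₚₗ[A] C) (A' : Type u) [CommRing A'] [Algebra A A'] :
    (PolLaw.ker F).map (Algebra.TensorProduct.includeRight : B →ₐ[A] A' ⊗[A] B) ≤
      PolLaw.kerBC F A' := by
  rw [Ideal.map_le_iff_le_comap]
  intro b hb
  exact one_tmul_mem_kerBC F A' hb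

/-- `1 ⊗ b` in `kerBC F A'`, spelled out over the algebras over `A'`. -/
theorem one_tmul_mem_kerBC_iff (F : B →ₚₗ[A] C) (A' : Type u) [CommRing A'] [Algebra A A']
    (b : B) : (1 : A') ⊗ₜ[A] b ∈ PolLaw.kerBC F A' ↔
      ∀ (R : Type u) [CommSemiring R] [Algebra A R] [Algebra A' R] [IsScalarTower A A' R]
        (x w : R ⊗[A] B), F.toFun' R (x + w * (1 ⊗ₜ[A] b)) = F.toFun' R x := by
  rw [mem_kerBC_iff]
  simp only [bmap, Algebra.TensorProduct.map_tmul, map_one, AlgHom.id_apply]

/-- If `A → A'` is universally injective, then `1 ⊗ b ∈ kerBC F A'` implies `b ∈ ker F`. -/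
theorem mem_ker_of_one_tmul_mem (F : B →ₚₗ[A] C) (A' : Type u) [CommRing A'] [Algebra A A']
    (hA' : ∀ (N : Type u) [AddCommGroup N] [Module A N],
      Function.Injective (TensorProduct.mk A A' N 1)) {b : B}
    (hb : (1 : A') ⊗ₜ[A] b ∈ PolLaw.kerBC F A') : b ∈ PolLaw.ker F := by
  rw [one_tmul_mem_kerBC_iff] at hb
  rw [mem_ker_iff_mv]
  intro σ x w
  set S := MvPolynomial σ A
  -- the test algebra `A' ⊗ S`
  let ψ : S →ₐ[A] A' ⊗[A] S := Algebra.TensorProduct.includeRight
  have h := hb (A' ⊗[A] S) (bmap ψ B x) (bmap ψ B w)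
  have h1 : (1 : A' ⊗[A] S) ⊗ₜ[A] b = bmap ψ B (1 ⊗ₜ[A] b) := by
    simp
  rw [h1, ← map_mul, ← map_add, toFun'_bmap, toFun'_bmap] at h
  -- injectivity of `S ⊗ C → (A' ⊗ S) ⊗ C`
  have hinj : Function.Injective (bmap ψ C) := by
    have h2 := hA' (S ⊗[A] C)
    have h3 : ∀ z : S ⊗[A] C, TensorProduct.assoc A A' S C (bmap ψ C z) =
        TensorProduct.mk A A' (S ⊗[A] C) 1 z := by
      intro z
      induction z using TensorProduct.induction_on with
      | zero => simp
      | tmul s c => simp [ψ]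
      | add x y hx hy => simp only [map_add, hx, hy]
    intro z z' hz
    apply h2
    rw [← h3, ← h3, hz]
  exact hinj h

/-- `kerBC F A` is the extension of `ker F`. -/
theorem mem_ker_iff_mem_kerBC_self (F : B →ₚₗ[A] C) (b : B) :
    (1 : A) ⊗ₜ[A] b ∈ PolLaw.kerBC F A ↔ b ∈ PolLaw.ker F := by
  refine ⟨fun h => mem_ker_of_one_tmul_mem F A ?_ h, one_tmul_mem_kerBC F A⟩
  intro N _ _ x y hxy
  simpa using congrArg (TensorProduct.lid A N) hxy

end Basic

end K756.KerBC
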