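import Groth.Agent.ZeroCyc.K757.Exists
import Groth.Agent.SymTen.K937.Lazard
import Groth.Prelude.Def_PolLaw2

/-!
The norm law `T^d(P) → TS^d(P)`, `z ↦ ∏ σ z`, of a free algebra, and its descent to a law
`T^d(B) → C` of degree `d!` for every law `B → C` of degree `d`.
-/

set_option autoImplicit false

universe u

open scoped TensorProduct
open K757.Ev K757.Coeff K757.TSFree K757.TSBasis K757.Factor K757.Exists

namespace K756.NormLaw

section General

variable {A : Type u} [CommRing A]

/-- Laws are equal when they are after a universally injective map. -/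
theorem postcomp_injective {M N N' : Type u} [AddCommGroup M] [Module A M] [AddCommGroup N]
    [Module A N] [AddCommGroup N'] [Module A N'] {j : N →ₗ[A] N'}
    (hj : Function.Injective j) {F G : M →ₚₗ[A] N}
    (h : PolLaw.postcomp j F = PolLaw.postcomp j G) : F = G := by
  refine ext_mvPolynomial fun n x => ?_
  have h1 : Function.Injective (j.lTensor (MvPolynomial (Fin n) A)) :=
    Module.Flat.lTensor_preserves_injective_linearMap j hj
  apply h1
  exact congrArg (fun H => H.toFun' (MvPolynomial (Fin n) A) x) h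

theorem isMult_of_postcomp {B C C' : Type u} [CommRing B] [Algebra A B] [CommRing C]
    [Algebra A C] [CommRing C'] [Algebra A C'] {j : C →ₐ[A] C'}
    (hj : ∀ (S : Type u) [CommSemiring S] [Algebra A S],
      Function.Injective (j.toLinearMap.lTensor S)) {F : B →ₚₗ[A] C}
    (h : PolLaw.IsMult (PolLaw.postcomp j.toLinearMap F)) : PolLaw.IsMult F := by
  intro S _ _
  have hinj := hj S
  refine ⟨hinj ?_, fun x y => hinj ?_⟩
  · refine (h S).1.trans ?_
    rw [PolLaw.lTensor_algHom_apply, map_one]
  · refine ((h S).2 x y).trans ?_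
    change j.toLinearMap.lTensor S (F.toFun' S x) * j.toLinearMap.lTensor S (F.toFun' S y) = _
    rw [PolLaw.lTensor_algHom_apply, PolLaw.lTensor_algHom_apply, PolLaw.lTensor_algHom_apply,
      map_mul]

theorem mulMap_lTensor {B C T : Type u} [CommRing B] [Algebra A B] [CommRing C] [Algebra A C]
    [CommSemiring T] [Algebra A T] (g : C →ₐ[A] T) (f : B →ₐ[A] C) (x : T ⊗[A] B) :
    mulMap g (f.toLinearMap.lTensor T x) = mulMap (g.comp f) x := by
  induction x using TensorProduct.induction_on with
  | zero => simp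
  | tmul a b => simp
  | add a b ha hb => simp only [map_add, ha, hb]

theorem ev_powLaw {B T : Type u} [CommRing B] [Algebra A B] [CommSemiring T] [Algebra A T]
    (n : ℕ) (g : B →ₐ[A] T) (x : T ⊗[A] B) :
    ev (PolLaw.powLaw (A := A) (B := B) n) g x = (mulMap g x) ^ n := by
  rw [ev]
  exact map_pow (mulMap g) x n

end General

section Nat

variable {A : Type u} [CommRing A] {P Q : Type u} [CommRing P] [Algebra A P] [CommRing Q]
  [Algebra A Q] (d : ℕ)

theorem tmap_comp_perm (α : Q →ₐ[A] P) (σ : Equiv.Perm (Fin d)) :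
    (SymTen.tmap A d α).comp (SymTen.perm A Q d σ) =
      (SymTen.perm A P d σ).comp (SymTen.tmap A d α) := by
  apply AlgHom.ext
  intro t
  rw [AlgHom.comp_apply, AlgHom.comp_apply, SymTen.perm_apply, SymTen.perm_apply,
    SymTen.tmap_reindex]

theorem tmap_comp_single (α : Q →ₐ[A] P) (j : Fin d) :
    (SymTen.tmap A d α).comp (PiTensorProduct.singleAlgHom (A := fun _ : Fin d => Q) j) =
      (PiTensorProduct.singleAlgHom (A := fun _ : Fin d => P) j).comp α := by
  apply AlgHom.ext
  intro q
  simp only [AlgHom.comp_apply, PiTensorProduct.singleAlgHom_apply, SymTen.tmap_tprod]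
  congr 1
  funext i
  simp only [MonoidHom.mulSingle_apply, Pi.mulSingle_apply]
  split_ifs <;> simp

/-- naturality of the symmetrization law. -/
theorem tmap_symmLaw (α : Q →ₐ[A] P) :
    PolLaw.postcomp (SymTen.tmap A d α).toLinearMap (SymTen.symmLaw A Q d).law =
      PolLaw.precomp (SymTen.symmLaw A P d).law (SymTen.tmap A d α).toLinearMap := by
  refine ext_ev fun T _ _ g x => ?_
  rw [ev_postcomp, ev_precomp, SymTen.symmLaw, SymTen.symmLaw, ev_prodMap, ev_prodMap]
  refine Finset.prod_congr rfl fun σ _ => ?_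
  rw [mulMap_lTensor, AlgHom.comp_assoc, AlgHom.comp_assoc, tmap_comp_perm]

/-- naturality of the tensor power law. -/
theorem tmap_tpowLaw (α : Q →ₐ[A] P) :
    PolLaw.postcomp (SymTen.tmap A d α).toLinearMap (SymTen.tpowLaw A Q d).law =
      PolLaw.precomp (SymTen.tpowLaw A P d).law α.toLinearMap := by
  refine ext_ev fun T _ _ g x => ?_
  rw [ev_postcomp, ev_precomp, ev_tpow, ev_tpow]
  refine Finset.prod_congr rfl fun j _ => ?_
  rw [mulMap_lTensor, AlgHom.comp_assoc, AlgHom.comp_assoc, tmap_comp_single]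

/-- the symmetrization law is invariant. -/
theorem perm_symmLaw (σ : Equiv.Perm (Fin d)) :
    PolLaw.postcomp (SymTen.perm A P d σ).toLinearMap (SymTen.symmLaw A P d).law =
      (SymTen.symmLaw A P d).law := by
  refine ext_ev fun T _ _ g x => ?_
  rw [ev_postcomp, SymTen.symmLaw, ev_prodMap, ev_prodMap]
  refine Fintype.prod_equiv (Equiv.mulLeft σ) _ _ fun τ => ?_
  congr 2
  rw [AlgHom.comp_assoc]
  congr 1
  apply AlgHom.ext
  intro t
  induction t using PiTensorProduct.induction_on with
  | smul_tprod r f =>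
    rw [map_smul, map_smul]
    simp only [AlgHom.comp_apply, SymTen.perm_tprod, Equiv.coe_mulLeft]
    rfl
  | add x y hx hy => rw [map_add, map_add, hx, hy]

/-- on symmetric tensors the symmetrization law is the power law. -/
theorem symmLaw_val :
    PolLaw.precomp (SymTen.symmLaw A P d).law (SymTen.TS A P d).val.toLinearMap =
      PolLaw.postcomp (SymTen.TS A P d).val.toLinearMap
        (PolLaw.MulLaw.pow A (SymTen.TS A P d) d.factorial).law := by
  refine ext_ev fun T _ _ g x => ?_
  rw [ev_postcomp, ev_precomp, SymTen.symmLaw, ev_prodMap]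
  change _ = ev (PolLaw.powLaw (A := A) (B := SymTen.TS A P d) d.factorial) _ x
  rw [ev_powLaw]
  have h : ∀ σ : Equiv.Perm (Fin d), mulMap (g.comp (SymTen.perm A P d σ))
      ((SymTen.TS A P d).val.toLinearMap.lTensor T x) =
      mulMap (g.comp (SymTen.TS A P d).val) x := by
    intro σ
    rw [mulMap_lTensor, AlgHom.comp_assoc]
    congr 2
    apply AlgHom.ext
    intro t
    rw [AlgHom.comp_apply, AlgHom.comp_apply, AlgHom.comp_apply, SymTen.perm_apply]
    exact congrArg g (t.2 σ)
  rw [Finset.prod_congr rfl fun σ _ => h σ, Finset.prod_const, Finset.card_univ,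
    Fintype.card_perm, Fintype.card_fin]

end Nat

section Free

variable {A : Type u} [CommRing A] {P : Type u} [CommRing P] [Algebra A P] {ι : Type u}
  (b : Module.Basis ι A P) (d : ℕ)

theorem cf_symm_mem {κ : Type u} (e : κ → ⨂[A] _ : Fin d, P) (α : κ →₀ ℕ) :
    cf (SymTen.symmLaw A P d).law e α ∈ SymTen.TS A P d := by
  rw [SymTen.mem_TS_iff]
  intro σ
  rw [← SymTen.perm_apply]
  change (SymTen.perm A P d σ).toLinearMap _ = _
  rw [← cf_postcomp (SymTen.symmLaw A P d).homog, perm_symmLaw]

theorem val_retr_symm : PolLaw.postcomp (SymTen.TS A P d).val.toLinearMap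
    (PolLaw.postcomp (retr b d) (SymTen.symmLaw A P d).law) = (SymTen.symmLaw A P d).law := by
  have h1 := isHomog_postcomp (SymTen.symmLaw A P d).homog (retr b d)
  refine ext_cf (e := (id : (⨂[A] _ : Fin d, P) → _)) (isHomog_postcomp h1 _)
    (SymTen.symmLaw A P d).homog (by simp) fun α => ?_
  rw [cf_postcomp h1, cf_postcomp (SymTen.symmLaw A P d).homog]
  have := retr_val b d ⟨_, cf_symm_mem d (id : (⨂[A] _ : Fin d, P) → _) α⟩
  exact congrArg Subtype.val this

/-- The norm law `T^d(P) → TS^d(P)` of a free algebra. -/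
noncomputable def N : PolLaw.MulLaw A (⨂[A] _ : Fin d, P) (SymTen.TS A P d) d.factorial where
  law := PolLaw.postcomp (retr b d) (SymTen.symmLaw A P d).law
  homog := isHomog_postcomp (SymTen.symmLaw A P d).homog (retr b d)
  mult := isMult_of_postcomp (j := (SymTen.TS A P d).val)
    (fun S _ _ => lTensor_val_injective b d S) (by
      rw [val_retr_symm]; exact (SymTen.symmLaw A P d).mult)

theorem val_N : PolLaw.postcomp (SymTen.TS A P d).val.toLinearMap (N b d).law =
    (SymTen.symmLaw A P d).law := val_retr_symm b d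

theorem N_val : PolLaw.precomp (N b d).law (SymTen.TS A P d).val.toLinearMap =
    (PolLaw.MulLaw.pow A (SymTen.TS A P d) d.factorial).law := by
  apply postcomp_injective (j := (SymTen.TS A P d).val.toLinearMap) Subtype.val_injective
  rw [← symmLaw_val, ← val_N b d]
  rfl

variable {Q : Type u} [CommRing Q] [Algebra A Q] {κ : Type u} (b' : Module.Basis κ A Q)

theorem TSmap_uLaw (α : Q →ₐ[A] P) :
    PolLaw.postcomp (SymTen.TSmap A d α).toLinearMap (uLaw b' d).law =
      PolLaw.precomp (uLaw b d).law α.toLinearMap := by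
  apply postcomp_injective (j := (SymTen.TS A P d).val.toLinearMap) Subtype.val_injective
  have h1 : PolLaw.postcomp (SymTen.TS A P d).val.toLinearMap
      (PolLaw.postcomp (SymTen.TSmap A d α).toLinearMap (uLaw b' d).law) =
      PolLaw.postcomp (SymTen.tmap A d α).toLinearMap
        (PolLaw.postcomp (SymTen.TS A Q d).val.toLinearMap (uLaw b' d).law) := by
    rw [postcomp_postcomp, postcomp_postcomp]
    rfl
  rw [h1, uLaw_val, tmap_tpowLaw, ← uLaw_val b d]
  rfl

theorem TSmap_N (α : Q →ₐ[A] P) :
    PolLaw.postcomp (SymTen.TSmap A d α).toLinearMap (N b' d).law =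
      PolLaw.precomp (N b d).law (SymTen.tmap A d α).toLinearMap := by
  apply postcomp_injective (j := (SymTen.TS A P d).val.toLinearMap) Subtype.val_injective
  have h1 : PolLaw.postcomp (SymTen.TS A P d).val.toLinearMap
      (PolLaw.postcomp (SymTen.TSmap A d α).toLinearMap (N b' d).law) =
      PolLaw.postcomp (SymTen.tmap A d α).toLinearMap
        (PolLaw.postcomp (SymTen.TS A Q d).val.toLinearMap (N b' d).law) := by
    rw [postcomp_postcomp, postcomp_postcomp]
    rfl
  rw [h1, val_N, tmap_symmLaw, ← val_N b d]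
  rfl

end Free

section Descent

variable {A : Type u} [CommRing A] {B : Type u} [CommRing B] [Algebra A B]
  {C : Type u} [CommRing C] [Algebra A C] {d : ℕ} (γ : PolLaw.MulLaw A B C d)
  {P : Type u} [CommRing P] [Algebra A P] {ι : Type u} (b : Module.Basis ι A P)
  (π : P →ₐ[A] B)

/-- the law `T^d(P) → C`. -/
noncomputable def G : PolLaw.MulLaw A (⨂[A] _ : Fin d, P) C d.factorial :=
  (N b d).postcomp (liftAlg b (γ.precomp π))

variable {Q : Type u} [CommRing Q] [Algebra A Q] {κ : Type u} (b' : Module.Basis κ A Q)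

theorem liftAlg_TSmap (α : Q →ₐ[A] P) :
    (liftAlg b (γ.precomp π)).comp (SymTen.TSmap A d α) = liftAlg b' (γ.precomp (π.comp α)) := by
  obtain ⟨k, -, hk⟩ := isGammaD_uLaw b' (d := d) C (γ.precomp (π.comp α))
  rw [hk ((liftAlg b (γ.precomp π)).comp (SymTen.TSmap A d α)), hk (liftAlg b' _)]
  · exact postcomp_liftAlg b' _
  · change PolLaw.postcomp ((liftAlg b (γ.precomp π)).toLinearMap ∘ₗ
      (SymTen.TSmap A d α).toLinearMap) (uLaw b' d).law = _
    rw [← postcomp_postcomp, TSmap_uLaw b]
    have h1 : PolLaw.postcomp (liftAlg b (γ.precomp π)).toLinearMap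
        (PolLaw.precomp (uLaw b d).law α.toLinearMap) =
        PolLaw.precomp (PolLaw.postcomp (liftAlg b (γ.precomp π)).toLinearMap (uLaw b d).law)
          α.toLinearMap := rfl
    rw [h1, postcomp_liftAlg]
    refine ext_ev fun T _ _ g x => ?_
    change ev γ.law g (π.toLinearMap.lTensor T (α.toLinearMap.lTensor T x)) =
      ev γ.law g ((π.comp α).toLinearMap.lTensor T x)
    rw [AlgHom.comp_toLinearMap, LinearMap.lTensor_comp]
    rfl

theorem G_tmap (α : Q →ₐ[A] P) :
    PolLaw.precomp (G γ b π).law (SymTen.tmap A d α).toLinearMap = (G γ b' (π.comp α)).law := by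
  change PolLaw.postcomp (liftAlg b (γ.precomp π)).toLinearMap
    (PolLaw.precomp (N b d).law (SymTen.tmap A d α).toLinearMap) =
    PolLaw.postcomp (liftAlg b' (γ.precomp (π.comp α))).toLinearMap (N b' d).law
  rw [← TSmap_N b d b', postcomp_postcomp, ← liftAlg_TSmap γ b π b' α]
  rfl

theorem tmap_eq_map (α : Q →ₐ[A] P) (z : ⨂[A] _ : Fin d, Q) :
    SymTen.tmap A d α z = PiTensorProduct.map (fun _ : Fin d => α.toLinearMap) z := by
  induction z using PiTensorProduct.induction_on with
  | smul_tprod r f => rw [map_smul, map_smul, SymTen.tmap_tprod, PiTensorProduct.map_tprod]; rfl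
  | add x y hx hy => rw [map_add, map_add, hx, hy]

theorem tmap_surjective (hπ : Function.Surjective π) :
    Function.Surjective (SymTen.tmap A d π) := by
  intro z
  induction z using PiTensorProduct.induction_on with
  | smul_tprod r f =>
    choose g hg using fun i => hπ (f i)
    refine ⟨r • PiTensorProduct.tprod A g, ?_⟩
    rw [map_smul, SymTen.tmap_tprod]
    simp only [hg]
  | add x y hx hy =>
    obtain ⟨x', rfl⟩ := hx
    obtain ⟨y', rfl⟩ := hy
    exact ⟨x' + y', map_add _ _ _⟩

/-- The law `T^d(P) → C` factors through `T^d(B)`. -/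
theorem exists_FT (hπ : Function.Surjective π) :
    ∃ F : (⨂[A] _ : Fin d, B) →ₚₗ[A] C,
      PolLaw.precomp F (SymTen.tmap A d π).toLinearMap = (G γ b π).law := by
  refine exists_factor _ (tmap_surjective π hπ) _ fun τ x y => ?_
  -- a polynomial algebra over the kernel pair
  let K : Subalgebra A (P × P) :=
    AlgHom.equalizer (π.comp (AlgHom.fst A P P)) (π.comp (AlgHom.snd A P P))
  let Q := MvPolynomial K A
  let q : Q →ₐ[A] P × P := K.val.comp (MvPolynomial.aeval id)
  let α : Q →ₐ[A] P := (AlgHom.fst A P P).comp q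
  let β : Q →ₐ[A] P := (AlgHom.snd A P P).comp q
  have hq : ∀ k : K, q (MvPolynomial.X k) = k := fun k =>
    congrArg Subtype.val (MvPolynomial.aeval_X (R := A) (id : K → K) k)
  have hαβ : π.comp α = π.comp β := by
    apply MvPolynomial.algHom_ext
    intro k
    simp only [α, β, AlgHom.comp_apply, hq]
    exact k.2
  let b' := MvPolynomial.basisMonomials K A
  -- lifting elements
  have hlift : ∀ (p p' : P), π p = π p' → ∃ z : Q, α z = p ∧ β z = p' := by
    intro p p' h
    exact ⟨MvPolynomial.X ⟨(p, p'), h⟩, by simp [α, hq], by simp [β, hq]⟩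
  have h1 : ∀ x : MvPolynomial τ A ⊗[A] (⨂[A] _ : Fin d, P),
      ∃ z : MvPolynomial τ A ⊗[A] (⨂[A] _ : Fin d, Q),
        (SymTen.tmap A d α).toLinearMap.lTensor _ z = x ∧
        (SymTen.tmap A d β).toLinearMap.lTensor _ z = x := by
    have h0 : ∀ x : ⨂[A] _ : Fin d, P, ∃ z : ⨂[A] _ : Fin d, Q,
        SymTen.tmap A d α z = x ∧ SymTen.tmap A d β z = x := by
      intro x
      induction x using PiTensorProduct.induction_on with
      | smul_tprod r f =>
        choose g hg hg' using fun i => hlift (f i) (f i) rfl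
        refine ⟨r • PiTensorProduct.tprod A g, ?_, ?_⟩
        · rw [map_smul, SymTen.tmap_tprod]; simp only [hg]
        · rw [map_smul, SymTen.tmap_tprod]; simp only [hg']
      | add x y hx hy =>
        obtain ⟨x', hx1, hx2⟩ := hx
        obtain ⟨y', hy1, hy2⟩ := hy
        exact ⟨x' + y', by rw [map_add, hx1, hy1], by rw [map_add, hx2, hy2]⟩
    intro x
    induction x using TensorProduct.induction_on with
    | zero => exact ⟨0, by simp, by simp⟩
    | tmul s x =>
      obtain ⟨z, hz1, hz2⟩ := h0 x
      exact ⟨s ⊗ₜ z, by rw [LinearMap.lTensor_tmul, AlgHom.toLinearMap_apply, hz1],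
        by rw [LinearMap.lTensor_tmul, AlgHom.toLinearMap_apply, hz2]⟩
    | add x y hx hy =>
      obtain ⟨x', hx1, hx2⟩ := hx
      obtain ⟨y', hy1, hy2⟩ := hy
      exact ⟨x' + y', by rw [map_add, hx1, hy1], by rw [map_add, hx2, hy2]⟩
  have h2 : ∀ y : MvPolynomial τ A ⊗[A] (LinearMap.ker (SymTen.tmap A d π).toLinearMap),
      ∃ z : MvPolynomial τ A ⊗[A] (⨂[A] _ : Fin d, Q),
        (SymTen.tmap A d α).toLinearMap.lTensor _ z =
          (LinearMap.ker (SymTen.tmap A d π).toLinearMap).subtype.lTensor _ y ∧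
        (SymTen.tmap A d β).toLinearMap.lTensor _ z = 0 := by
    have h0 : ∀ x : ⨂[A] _ : Fin d, P, x ∈ K937.Laz.kerSpan d π.toLinearMap →
        ∃ z : ⨂[A] _ : Fin d, Q, SymTen.tmap A d α z = x ∧ SymTen.tmap A d β z = 0 := by
      intro x hx
      induction hx using Submodule.span_induction with
      | zero => exact ⟨0, map_zero _, map_zero _⟩
      | add x y _ _ hx hy =>
        obtain ⟨x', hx1, hx2⟩ := hx
        obtain ⟨y', hy1, hy2⟩ := hy
        exact ⟨x' + y', by rw [map_add, hx1, hy1], by rw [map_add, hx2, hy2, add_zero]⟩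
      | smul r x _ hx =>
        obtain ⟨x', hx1, hx2⟩ := hx
        exact ⟨r • x', by rw [map_smul, hx1], by rw [map_smul, hx2, smul_zero]⟩
      | mem x hx =>
        classical
        obtain ⟨f, ⟨i, hi⟩, rfl⟩ := hx
        choose g hg hg' using fun j : Fin d => hlift (f j) (if j = i then 0 else f j) (by
          split_ifs with h
          · subst h; rw [map_zero]; exact hi
          · rfl)
        refine ⟨PiTensorProduct.tprod A g, ?_, ?_⟩
        · rw [SymTen.tmap_tprod]; simp only [hg]
        · rw [SymTen.tmap_tprod]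
          simp only [hg']
          exact (PiTensorProduct.tprod A).map_coord_zero i (if_pos rfl)
    intro y
    induction y using TensorProduct.induction_on with
    | zero => exact ⟨0, by simp, by simp⟩
    | tmul s x =>
      obtain ⟨z, hz1, hz2⟩ := h0 x.1 (K937.Laz.ker_map_le _ hπ (by
        rw [← tmap_eq_map]; exact x.2))
      exact ⟨s ⊗ₜ z, by rw [LinearMap.lTensor_tmul, LinearMap.lTensor_tmul,
        AlgHom.toLinearMap_apply, hz1]; rfl,
        by rw [LinearMap.lTensor_tmul, AlgHom.toLinearMap_apply, hz2, TensorProduct.tmul_zero]⟩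
    | add x y hx hy =>
      obtain ⟨x', hx1, hx2⟩ := hx
      obtain ⟨y', hy1, hy2⟩ := hy
      exact ⟨x' + y', by rw [map_add, hx1, hy1, map_add], by rw [map_add, hx2, hy2, add_zero]⟩
  obtain ⟨x', hx1, hx2⟩ := h1 x
  obtain ⟨y', hy1, hy2⟩ := h2 y
  have h3 : PolLaw.precomp (G γ b π).law (SymTen.tmap A d α).toLinearMap =
      PolLaw.precomp (G γ b π).law (SymTen.tmap A d β).toLinearMap := by
    rw [G_tmap γ b π b' α, G_tmap γ b π b' β, hαβ]
  have h4 := congrArg (fun H => H.toFun' (MvPolynomial τ A) (x' + y')) h3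
  change (G γ b π).law.toFun' _ ((SymTen.tmap A d α).toLinearMap.lTensor _ (x' + y')) =
    (G γ b π).law.toFun' _ ((SymTen.tmap A d β).toLinearMap.lTensor _ (x' + y')) at h4
  rw [map_add, map_add, hx1, hx2, hy1, hy2, add_zero] at h4
  exact h4

end Descent

end K756.NormLaw
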